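import Groth.Agent.H61.HpullFunct
import Groth.Prelude.Def_LefMon

/-!
Functoriality of `EtAdic.Hmap` in the morphism.
-/

universe u

open CategoryTheory CategoryTheory.Limits AlgebraicGeometry Opposite

namespace Groth.Agent.H61.HmapFunct

open Groth.Agent.H61.HpullFunct

variable {X Y Z : Scheme.{u}} (f : X ⟶ Y) (g : Y ⟶ Z) (f₀ : X ⟶ Z) (w : f ≫ g = f₀)

/-- Two natural maps out of a left adjoint applied to a group agree as soon as they agree on `ℤ`. -/
theorem hom_ext_of_int {B : Type*} [Category B] {L : AddCommGrpCat.{u + 1} ⥤ B} {R : B ⥤ AddCommGrpCat.{u + 1}}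
    (adj : L ⊣ R) {G : AddCommGrpCat.{u + 1} ⥤ B} (α β : L ⟶ G)
    (h : α.app (AddCommGrpCat.of (ULift.{u + 1} ℤ)) = β.app (AddCommGrpCat.of (ULift.{u + 1} ℤ)))
    (A : AddCommGrpCat.{u + 1}) : α.app A = β.app A := by
  apply (adj.homEquiv _ _).injective
  refine AddCommGrpCat.hom_ext (DFunLike.ext _ _ fun a => ?_)
  let m : AddCommGrpCat.of (ULift.{u + 1} ℤ) ⟶ A :=
    AddCommGrpCat.ofHom ((zmultiplesHom A a).comp AddEquiv.ulift.toAddMonoidHom)
  have hm : m ≫ adj.homEquiv _ _ (α.app A) = m ≫ adj.homEquiv _ _ (β.app A) := by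
    rw [← Adjunction.homEquiv_naturality_left, ← Adjunction.homEquiv_naturality_left,
      α.naturality, β.naturality, h]
  have h1 := ConcreteCategory.congr_hom hm (ULift.up 1)
  have hm1 : m (ULift.up 1) = a := by
    show (1 : ℤ) • a = a
    exact one_zsmul a
  rw [ConcreteCategory.comp_apply, ConcreteCategory.comp_apply, hm1] at h1
  exact h1

theorem pullConst_comp (M : Type) [AddCommGroup M] :
    ((EtCore.pullComp f g).symm ≪≫ EtCore.pullCongr w).hom.app (EtCoh.const Z M) ≫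
        (EtCore.pullConst f₀ M).hom =
      (EtCoh.pull f).map (EtCore.pullConst g M).hom ≫ (EtCore.pullConst f M).hom := by
  let C : EtCoh.pull g ⋙ EtCoh.pull f ⟶ EtCoh.pull f₀ :=
    ((EtCore.pullComp f g).symm ≪≫ EtCore.pullCongr w).hom
  let α : constantSheaf Z.smallEtaleTopology AddCommGrpCat.{u + 1} ⋙ EtCoh.pull g ⋙ EtCoh.pull f ⟶
      constantSheaf X.smallEtaleTopology AddCommGrpCat.{u + 1} :=
    Functor.whiskerLeft _ C ≫ (EtCore.pullConstIso f₀).hom
  let β : constantSheaf Z.smallEtaleTopology AddCommGrpCat.{u + 1} ⋙ EtCoh.pull g ⋙ EtCoh.pull f ⟶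
      constantSheaf X.smallEtaleTopology AddCommGrpCat.{u + 1} :=
    Functor.whiskerRight (EtCore.pullConstIso g).hom (EtCoh.pull f) ≫ (EtCore.pullConstIso f).hom
  have hZ : C.app (EtCoh.const Z ℤ) ≫ (EtCore.pullConst f₀ ℤ).hom =
      (EtCoh.pull f).map (EtCore.pullConst g ℤ).hom ≫ (EtCore.pullConst f ℤ).hom := by
    have h := const_comp f g f₀ w
    rw [← cancel_epi ((EtCore.pullConst f ℤ).inv ≫ (EtCoh.pull f).map (EtCore.pullConst g ℤ).inv)]
    have h' : ((EtCore.pullConst f ℤ).inv ≫ (EtCoh.pull f).map (EtCore.pullConst g ℤ).inv) ≫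
        C.app (EtCoh.const Z ℤ) = (EtCore.pullConst f₀ ℤ).inv := by
      rw [Category.assoc]; exact h.symm
    rw [← Category.assoc, h', Iso.inv_hom_id]
    rw [Category.assoc, ← Functor.map_comp_assoc, Iso.inv_hom_id, CategoryTheory.Functor.map_id,
      Category.id_comp, Iso.inv_hom_id]
  exact hom_ext_of_int ((EtCore.constAdj Z).comp ((EtCoh.pullPushAdj g).comp (EtCoh.pullPushAdj f)))
    α β hZ (AddCommGrpCat.of (ULift.{u + 1} M))

section

variable (n : ℕ)

theorem map_map {A B C : EtCoh.Ab X} (a : A ⟶ B) (b : B ⟶ C) (x : EtCoh.H X A n) :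
    ((EtCoh.HF X n).map b).hom (((EtCoh.HF X n).map a).hom x) = ((EtCoh.HF X n).map (a ≫ b)).hom x := by
  rw [Functor.map_comp]; rfl

include w

variable [PreservesFiniteLimits (EtCoh.pull f)] [PreservesFiniteLimits (EtCoh.pull g)]
  [PreservesFiniteLimits (EtCoh.pull f₀)]

theorem via_split (G : EtCoh.Ab Z) (e : EtCoh.H Z G n) :
    ((EtCoh.HF X n).map (((EtCore.pullComp f g).symm ≪≫ EtCore.pullCongr w).app G).hom).hom
      (EtCore.Hpull f ((EtCoh.pull g).obj G) n (EtCore.Hpull g G n e)) = EtCore.Hpull f₀ G n e := by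
  have hh := HpullVia_Hpull f g f₀ w G n e
  rw [EtCore.HpullVia] at hh
  exact hh

/-- pullback to a constant sheaf, in stages -/
theorem chain (M : Type) [AddCommGroup M] (x : EtCoh.H Z (EtCoh.const Z M) n) :
    ((EtCoh.HF X n).map (EtCore.pullConst f₀ M).hom).hom (EtCore.Hpull f₀ (EtCoh.const Z M) n x) =
      ((EtCoh.HF X n).map (EtCore.pullConst f M).hom).hom (EtCore.Hpull f (EtCoh.const Y M) n
        (((EtCoh.HF Y n).map (EtCore.pullConst g M).hom).hom (EtCore.Hpull g (EtCoh.const Z M) n x))) := by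
  refine (congrArg ((EtCoh.HF X n).map (EtCore.pullConst f₀ M).hom).hom
    (via_split f g f₀ w n (EtCoh.const Z M) x).symm).trans ?_
  refine (map_map n _ _ _).trans ?_
  refine Eq.trans ?_ (congrArg ((EtCoh.HF X n).map (EtCore.pullConst f M).hom).hom
    (Hpull_map (f := f) (EtCore.pullConst g M).hom n _)).symm
  refine Eq.trans ?_ (map_map n _ _ _).symm
  exact congrArg (fun t => ((EtCoh.HF X n).map t).hom
    (EtCore.Hpull f _ n (EtCore.Hpull g (EtCoh.const Z M) n x))) (pullConst_comp f g f₀ w M)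

end

theorem Hmap_eq {A B : Scheme.{u}} (v : A ⟶ B) (hv : PreservesFiniteLimits (EtCoh.pull v)) (ℓ i ν : ℕ)
    (x : EtAdic.Hmod B ℓ i ν) :
    EtAdic.Hmap ℓ v hv i ν x = ((EtCoh.HF A i).map (EtCore.pullConst v (ZMod (ℓ ^ ν))).hom).hom
      (haveI := hv; EtCore.Hpull v (EtCoh.const B (ZMod (ℓ ^ ν))) i x) := by
  rw [EtAdic.Hmap]
  rfl

/-- `(f ≫ g)^* = f^* ∘ g^*` on `H^i(-, ℤ/ℓ^ν)`. -/
theorem Hmap_comp (hf : PreservesFiniteLimits (EtCoh.pull f)) (hg : PreservesFiniteLimits (EtCoh.pull g))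
    (h₀ : PreservesFiniteLimits (EtCoh.pull f₀)) (w : f ≫ g = f₀) (ℓ i ν : ℕ) (x : EtAdic.Hmod Z ℓ i ν) :
    EtAdic.Hmap ℓ f₀ h₀ i ν x = EtAdic.Hmap ℓ f hf i ν (EtAdic.Hmap ℓ g hg i ν x) := by
  haveI := hf
  haveI := hg
  haveI := h₀
  refine (Hmap_eq f₀ h₀ ℓ i ν x).trans ?_
  refine Eq.trans ?_ (Hmap_eq f hf ℓ i ν _).symm
  refine (chain f g f₀ w i (ZMod (ℓ ^ ν)) x).trans ?_
  exact congrArg (fun t => ((EtCoh.HF X i).map (EtCore.pullConst f (ZMod (ℓ ^ ν))).hom).hom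
    (EtCore.Hpull f (EtCoh.const Y (ZMod (ℓ ^ ν))) i t)) (Hmap_eq g hg ℓ i ν x).symm

end Groth.Agent.H61.HmapFunct
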