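import Groth.Agent.Lib.EtJ.MayerVietoris
import Groth.Prelude.Def_EtLim

/-!
Functoriality of `EtCore.Hpull` in the morphism and in the sheaf.
-/

universe u

open CategoryTheory CategoryTheory.Limits CategoryTheory.Abelian AlgebraicGeometry Opposite
open Groth.Agent.Lib.EtJ

namespace Groth.Agent.H61.HpullFunct

variable {X Y Z : Scheme.{u}} (f : X ⟶ Y) (g : Y ⟶ Z) (f₀ : X ⟶ Z) (w : f ≫ g = f₀)

theorem const_comp :
    (EtCore.pullConst f₀ ℤ).inv =
      (EtCore.pullConst f ℤ).inv ≫ (EtCoh.pull f).map (EtCore.pullConst g ℤ).inv ≫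
        ((EtCore.pullComp f g).symm ≪≫ EtCore.pullCongr w).hom.app _ := by
  apply (PullSec.elem X _).injective
  rw [← Category.assoc, PullSec.elem_comp, PullSec.elem_pull, PullSec.elem_pullConst_inv g,
    PullSec.elem_pullConst_inv f₀]
  exact (PullSec.pullComp_pullSec f g f₀ w (EtCoh.top Z) (EtCore.bcTopIsTerminal g)
    (EtCore.bcTopIsTerminal f₀) _ _).symm

variable [PreservesFiniteLimits (EtCoh.pull f)] [PreservesFiniteLimits (EtCoh.pull g)]
  [PreservesFiniteLimits (EtCoh.pull f₀)]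

/-- Pulling back along `g` and then along `f` is pulling back along `f ≫ g`. -/
theorem HpullVia_Hpull (G : EtCoh.Ab Z) (n : ℕ) (e : EtCoh.H Z G n) :
    EtCore.HpullVia f g f₀ w G n (EtCore.Hpull g G n e) = EtCore.Hpull f₀ G n e := by
  have hι : (EtCore.pullConst f₀ ℤ).inv ≫ (EtCoh.pull f₀).map (𝟙 _) =
      (EtCore.pullConst f ℤ).inv ≫ (EtCoh.pull f).map (EtCore.pullConst g ℤ).inv ≫
        ((EtCore.pullComp f g).symm ≪≫ EtCore.pullCongr w).hom.app _ := by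
    rw [CategoryTheory.Functor.map_id, Category.comp_id]
    exact const_comp f g f₀ w
  have h := MVAlg.via_eq (EtCoh.pull g) (EtCoh.pull f₀) (EtCoh.pull f)
    ((EtCore.pullComp f g).symm ≪≫ EtCore.pullCongr w).hom (EtCore.pullConst f ℤ).inv
    (EtCore.pullConst g ℤ).inv (EtCore.pullConst f₀ ℤ).inv (𝟙 _) hι e
  rw [Ext.mk₀_id_comp] at h
  exact h

variable {f g f₀}

omit [PreservesFiniteLimits (EtCoh.pull g)] [PreservesFiniteLimits (EtCoh.pull f₀)] in
/-- Pullback is natural in the sheaf. -/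
theorem Hpull_map {G G' : EtCoh.Ab Y} (φ : G ⟶ G') (n : ℕ) (e : EtCoh.H Y G n) :
    EtCore.Hpull f G' n (((EtCoh.HF Y n).map φ).hom e) =
      ((EtCoh.HF X n).map ((EtCoh.pull f).map φ)).hom (EtCore.Hpull f G n e) :=
  ExtAdj.extTr_comp_mk₀ (EtCoh.pull f) (EtCore.pullConst f ℤ).inv e φ

end Groth.Agent.H61.HpullFunct

namespace Groth.Agent.H61.HpullFunct

section abstract

variable {A B C : Type*} [Category A] [Category B] [Category C]
  {L₁ : A ⥤ B} {R₁ : B ⥤ A} {L₂ : B ⥤ C} {R₂ : C ⥤ B} {L : A ⥤ C} {R : C ⥤ A}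

/-- Transposes for a composite of adjunctions identified with a given one. -/
theorem homEquiv_leftAdjointUniq_comp (adj₁ : L₁ ⊣ R₁) (adj₂ : L₂ ⊣ R₂) (adj : L ⊣ R)
    (e : R₂ ⋙ R₁ ≅ R) {M : A} {N : C} (φ : L.obj M ⟶ N) :
    adj₁.homEquiv _ _ (adj₂.homEquiv _ _
        ((Adjunction.leftAdjointUniq adj ((adj₁.comp adj₂).ofNatIsoRight e)).inv.app M ≫ φ)) ≫
      e.hom.app N = adj.homEquiv _ _ φ := by
  set α := Adjunction.leftAdjointUniq adj ((adj₁.comp adj₂).ofNatIsoRight e)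
  obtain ⟨ψ, rfl⟩ : ∃ ψ, φ = α.hom.app M ≫ ψ := ⟨α.inv.app M ≫ φ, by simp⟩
  have h := Adjunction.homEquiv_leftAdjointUniq_hom_app adj ((adj₁.comp adj₂).ofNatIsoRight e) M
  rw [Iso.inv_hom_id_app_assoc]
  conv_rhs => rw [Adjunction.homEquiv_naturality_right]
  erw [h]
  simp [Adjunction.ofNatIsoRight, Adjunction.comp, Adjunction.homEquiv_unit]
  exact congrArg (fun t => adj₁.unit.app M ≫ R₁.map (adj₂.unit.app (L₁.obj M)) ≫ t) (e.hom.naturality ψ)

end abstract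

theorem pushCongr_rfl {X Y : Scheme.{u}} (f : X ⟶ Y) (N : EtCoh.Ab X) :
    (EtCoh.pushCongr (rfl : f = f)).hom.app N = 𝟙 _ := by
  apply ObjectProperty.hom_ext
  refine NatTrans.ext (funext fun U => ?_)
  change N.obj.map ((MorphismProperty.Over.pullbackCongr (P := EtCoh.etaleMP) (Q := ⊤)
    (rfl : f = f)).inv.app U.unop).op = 𝟙 _
  refine (congrArg N.obj.map ?_).trans (N.obj.map_id _)
  refine Quiver.Hom.unop_inj (MorphismProperty.Over.Hom.ext ?_)
  change (pullback.congrHom (rfl : U.unop.hom = U.unop.hom) (rfl : f = f)).inv = 𝟙 _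
  apply pullback.hom_ext <;> simp

/-- The transpose of a map out of a composite pullback. -/
theorem homEquiv_pullVia {X Y Z : Scheme.{u}} {f : X ⟶ Y} {g : Y ⟶ Z} {f₀ : X ⟶ Z} (w : f ≫ g = f₀)
    {M : EtCoh.Ab Z} {N : EtCoh.Ab X} (φ : (EtCoh.pull f₀).obj M ⟶ N) :
    (EtCoh.pullPushAdj g).homEquiv _ _ ((EtCoh.pullPushAdj f).homEquiv _ _
        (((EtCore.pullComp f g).symm ≪≫ EtCore.pullCongr w).hom.app M ≫ φ)) ≫
      (EtCoh.pushComp g f).hom.app N ≫ (EtCoh.pushCongr w).hom.app N =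
    (EtCoh.pullPushAdj f₀).homEquiv _ _ φ := by
  subst w
  rw [pushCongr_rfl, Category.comp_id]
  have hc : ((EtCore.pullComp f g).symm ≪≫ EtCore.pullCongr (rfl : f ≫ g = f ≫ g)).hom.app M =
      (EtCore.pullComp f g).inv.app M := by
    simp [EtCore.pullCongr]
  rw [hc]
  exact homEquiv_leftAdjointUniq_comp (EtCoh.pullPushAdj g) (EtCoh.pullPushAdj f)
    (EtCoh.pullPushAdj (f ≫ g)) (EtCoh.pushComp g f) φ

end Groth.Agent.H61.HpullFunct
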