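import Groth.Agent.Lib.CiField.Basic
import Mathlib

/-!
Norms over C₁ fields: surjectivity, and `Ĥ⁻¹(Gal(L/K), Lˣ) = 0`.
-/

open MvPolynomial

namespace Groth.Agent.H61.C1Norm

universe u v w

theorem isCi_one_finite {K : Type u} [Field K] {L : Type v} [Field L] [Algebra K L] [FiniteDimensional K L]
    (hK : Curves.IsCr K 1) : Curves.IsCr L 1 :=
  Groth.Agent.Lib.CiField.Basic.isCr_one_of_finite hK

/-- Over a C₁ field every norm map of a finite extension is surjective. -/
theorem norm_surjective {K : Type u} [Field K] (hK : Curves.IsCr K 1) (L : Type v) [Field L]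
    [Algebra K L] [FiniteDimensional K L] : Function.Surjective (Algebra.norm K : L → K) := by
  classical
  intro c
  by_cases hc : c = 0
  · exact ⟨0, by rw [hc, Algebra.norm_zero]⟩
  set n := Module.finrank K L
  have hn : 0 < n := Module.finrank_pos
  let b := Module.finBasis K L
  let A : Fin n → Matrix (Fin n) (Fin n) K := fun a => Algebra.leftMulMatrix b (b a)
  let G : Matrix (Fin n) (Fin n) (MvPolynomial (Fin (n + 1)) K) := fun i j =>
    ∑ a : Fin n, C (A a i j) * X a.castSucc
  have hG : ∀ i j, (G i j).IsHomogeneous 1 := fun i j =>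
    IsHomogeneous.sum _ _ _ fun a _ => isHomogeneous_C_mul_X _ _
  have hdet : G.det.IsHomogeneous n := by
    rw [Matrix.det_apply]
    refine IsHomogeneous.sum _ _ _ fun τ _ => ?_
    rw [Units.smul_def, zsmul_eq_mul, ← map_intCast (C : K →+* MvPolynomial (Fin (n + 1)) K)]
    refine IsHomogeneous.C_mul ?_ _
    simpa using IsHomogeneous.prod Finset.univ (fun i => G (τ i) i) (fun _ => 1) fun i _ => hG _ _
  obtain ⟨y, hy, hy'⟩ := hK (n + 1) n (G.det - C c * X (Fin.last n) ^ n)
    (hdet.sub ((isHomogeneous_X_pow _ _).C_mul _)) hn (by rw [pow_one]; omega)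
  let x : L := ∑ a : Fin n, y a.castSucc • b a
  have hev : MvPolynomial.eval y G.det = Algebra.norm K x := by
    rw [RingHom.map_det, Algebra.norm_eq_matrix_det b]
    congr 1
    ext i j
    simp [G, x, A, Matrix.sum_apply, mul_comm]
  rw [map_sub, map_mul, map_pow, eval_C, eval_X, hev, sub_eq_zero] at hy'
  by_cases ht : y (Fin.last n) = 0
  · exfalso
    rw [ht, zero_pow hn.ne', mul_zero] at hy'
    have hx := Algebra.norm_eq_zero_iff.mp hy'
    refine hy (funext fun i => ?_)
    induction i using Fin.lastCases with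
    | last => exact ht
    | cast a => exact Fintype.linearIndependent_iff.mp b.linearIndependent (fun a => y a.castSucc) hx a
  · refine ⟨algebraMap K L (y (Fin.last n))⁻¹ * x, ?_⟩
    rw [map_mul, Algebra.norm_algebraMap, hy', inv_pow, mul_comm c, inv_mul_cancel_left₀ (pow_ne_zero _ ht)]

/-- The subgroup generated by the `w / g w`. -/
def aug (K : Type u) (L : Type v) [Field K] [Field L] [Algebra K L] : Subgroup Lˣ :=
  Subgroup.closure {v : Lˣ | ∃ (w : Lˣ) (g : L ≃ₐ[K] L), (v : L) = (w : L) / g (w : L)}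

variable {K : Type u} {L : Type v} [Field K] [Field L] [Algebra K L]

lemma mem_aug {v : Lˣ} (w : Lˣ) (g : L ≃ₐ[K] L) (h : (v : L) = (w : L) / g (w : L)) : v ∈ aug K L :=
  Subgroup.subset_closure ⟨w, g, h⟩

lemma aug_tower (M : IntermediateField K L) : aug M L ≤ aug K L := by
  refine (Subgroup.closure_le _).mpr ?_
  rintro v ⟨w, g, h⟩
  exact mem_aug w (g.restrictScalars K) h

lemma norm_aug [FiniteDimensional K L] {v : Lˣ} (hv : v ∈ aug K L) : Algebra.norm K (v : L) = 1 := by
  induction hv using Subgroup.closure_induction with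
  | mem v hv =>
    obtain ⟨w, g, h⟩ := hv
    rw [h, div_eq_mul_inv, map_mul, Algebra.norm_inv, Algebra.norm_eq_of_algEquiv g]
    exact mul_inv_cancel₀ (Algebra.norm_ne_zero_iff.mpr w.ne_zero)
  | one => simp
  | mul a b _ _ ha hb => rw [Units.val_mul, map_mul, ha, hb, one_mul]
  | inv a _ ha => rw [Units.val_inv_eq_inv_val, Algebra.norm_inv, ha, inv_one]

lemma norm_fixedField [FiniteDimensional K L] [IsGalois K L] (H : Subgroup (L ≃ₐ[K] L)) [Fintype H] (x : L) :
    algebraMap (IntermediateField.fixedField H) L (Algebra.norm (IntermediateField.fixedField H) x) =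
      ∏ h : H, (h : L ≃ₐ[K] L) x := by
  rw [Algebra.norm_eq_prod_automorphisms]
  refine (Fintype.prod_equiv (IntermediateField.subgroupEquivAlgEquiv H).toEquiv _ _ fun h => ?_).symm
  rfl

/-- Hilbert 90 for a cyclic extension of prime degree, in any universe. -/
lemma exists_div_of_norm_eq_one' {F : Type u} {M : Type v} [Field F] [Field M] [Algebra F M]
    [FiniteDimensional F M] [IsGalois F M] (p : ℕ) (hp : p.Prime) (hcard : Nat.card (M ≃ₐ[F] M) = p)
    (σ : M ≃ₐ[F] M) (hσ : σ ≠ 1) (x : M) (hx : Algebra.norm F x = 1) :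
    ∃ y : Mˣ, (y : M) / σ y = x := by
  classical
  haveI := Fact.mk hp
  have hord : orderOf σ = p :=
    ((hp.eq_one_or_self_of_dvd _ (hcard ▸ orderOf_dvd_natCard σ)).resolve_left
      (fun h => hσ (orderOf_eq_one_iff.mp h)))
  let c : ℕ → M := fun i => ∏ j ∈ Finset.range i, (σ ^ j) x
  have hsucc : ∀ i, c (i + 1) = x * σ (c i) := fun i => by
    show ∏ j ∈ Finset.range (i + 1), (σ ^ j) x = x * σ (∏ j ∈ Finset.range i, (σ ^ j) x)
    rw [Finset.prod_range_succ', map_prod, mul_comm]
    congr 1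
    exact Finset.prod_congr rfl fun j _ => by rw [pow_succ', AlgEquiv.mul_apply]
  have hbij : Function.Bijective (fun j : Fin p => σ ^ (j : ℕ)) := by
    refine (Fintype.bijective_iff_injective_and_card _).mpr ⟨fun a b h => Fin.ext ?_, ?_⟩
    · exact pow_injOn_Iio_orderOf (by rw [hord]; exact a.2) (by rw [hord]; exact b.2) h
    · rw [Fintype.card_fin, ← Nat.card_eq_fintype_card, hcard]
  have hcp : c p = 1 := by
    have h := Algebra.norm_eq_prod_automorphisms F x
    rw [hx, map_one] at h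
    show ∏ j ∈ Finset.range p, (σ ^ j) x = 1
    rw [h, ← Fin.prod_univ_eq_prod_range (fun j => (σ ^ j) x) p]
    exact Fintype.prod_bijective _ hbij _ _ fun j => rfl
  have hLI : LinearIndependent M (fun j : Fin p => (((σ ^ (j : ℕ) : M ≃ₐ[F] M) : M →* M) : M → M)) :=
    (linearIndependent_monoidHom M M).comp (fun j : Fin p => ((σ ^ (j : ℕ) : M ≃ₐ[F] M) : M →* M))
      (fun a b h => hbij.1 (AlgEquiv.ext fun z => DFunLike.congr_fun h z))
  obtain ⟨z, hz⟩ : ∃ z, ∑ j : Fin p, c j * (σ ^ (j : ℕ)) z ≠ 0 := by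
    by_contra hall
    push Not at hall
    have := Fintype.linearIndependent_iff.mp hLI (fun j : Fin p => c j)
      (funext fun z => by simpa using hall z) ⟨0, hp.pos⟩
    simp [c] at this
  refine ⟨Units.mk0 _ hz, ?_⟩
  have key : x * σ (∑ j : Fin p, c j * (σ ^ (j : ℕ)) z) = ∑ j : Fin p, c j * (σ ^ (j : ℕ)) z := by
    rw [Fin.sum_univ_eq_sum_range (fun j => c j * (σ ^ j) z) p, map_sum, Finset.mul_sum]
    have h1 := Finset.sum_range_succ (fun j => c j * (σ ^ j) z) p
    rw [Finset.sum_range_succ'] at h1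
    have h0 : c 0 * (σ ^ 0) z = c p * (σ ^ p) z := by
      rw [hcp, ← hord, pow_orderOf_eq_one]; simp [c]
    rw [h0, add_left_inj] at h1
    rw [← h1]
    exact Finset.sum_congr rfl fun j _ => by rw [hsucc, map_mul, pow_succ', AlgEquiv.mul_apply, mul_assoc]
  rw [Units.val_mk0, div_eq_iff ((map_ne_zero σ).mpr hz)]
  exact key.symm

lemma prime_power_case (p : ℕ) (hp : p.Prime) : ∀ (n : ℕ) (K : Type v) [Field K] (L : Type v) [Field L]
    [Algebra K L] [FiniteDimensional K L] [IsGalois K L], Curves.IsCr K 1 →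
    Nat.card (L ≃ₐ[K] L) = p ^ n → ∀ u : Lˣ, Algebra.norm K (u : L) = 1 → u ∈ aug K L := by
  intro n
  induction n with
  | zero =>
    intro K _ L _ _ _ _ _ hcard u hu
    have hfin : Module.finrank K L = 1 := by rw [← IsGalois.card_aut_eq_finrank, hcard, pow_zero]
    obtain ⟨c, hc⟩ := (finrank_eq_one_iff_of_nonzero' (1 : L) one_ne_zero).mp hfin (u : L)
    rw [← hc, Algebra.smul_def, mul_one, Algebra.norm_algebraMap, hfin, pow_one] at hu
    have : u = 1 := Units.ext (by rw [← hc, hu, one_smul, Units.val_one])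
    rw [this]; exact one_mem _
  | succ n ih =>
    intro K _ L _ _ _ _ hK hcard u hu
    classical
    haveI := Fact.mk hp
    obtain ⟨H, hH⟩ := Sylow.exists_subgroup_card_pow_prime (G := L ≃ₐ[K] L) p
      (n := n) (hcard ▸ pow_dvd_pow p n.le_succ)
    have hindex : H.index = p := by
      have h := H.card_mul_index
      rw [hH, hcard, pow_succ] at h
      exact mul_left_cancel₀ (pow_ne_zero _ hp.ne_zero) h
    have hnormal : H.Normal := Subgroup.normal_of_index_eq_minFac_card (by
      rw [hindex, hcard, Nat.pow_minFac (Nat.succ_ne_zero n), hp.minFac_eq])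
    let M := IntermediateField.fixedField H
    have hcardM : Nat.card (M ≃ₐ[K] M) = p := by
      rw [← Nat.card_congr (IsGalois.normalAutEquivQuotient H).toEquiv, ← hindex]; rfl
    have hcardL : Nat.card (L ≃ₐ[M] L) = p ^ n := by
      rw [← Nat.card_congr (IntermediateField.subgroupEquivAlgEquiv H).toEquiv, hH]
    have : Nontrivial (M ≃ₐ[K] M) := Finite.one_lt_card_iff_nontrivial.mp (hcardM ▸ hp.one_lt)
    obtain ⟨σ, hσ⟩ := exists_ne (1 : M ≃ₐ[K] M)
    obtain ⟨x, hx⟩ := exists_div_of_norm_eq_one' p hp hcardM σ hσ (Algebra.norm M (u : L))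
      (by rw [Algebra.norm_norm]; exact hu)
    obtain ⟨w, hw⟩ := norm_surjective (isCi_one_finite hK) L (x : M)
    have hw0 : w ≠ 0 := fun h => x.ne_zero (by rw [← hw, h, Algebra.norm_zero])
    obtain ⟨τ, hτ⟩ := AlgEquiv.restrictNormalHom_surjective (F := K) (K₁ := M) L σ
    have hτM : ∀ m : M, algebraMap M L (σ m) = τ (algebraMap M L m) := fun m => by
      rw [← hτ]
      exact AlgEquiv.restrictNormal_commutes τ M m
    have hτw0 : τ w ≠ 0 := (map_ne_zero τ).mpr hw0
    let d : Lˣ := Units.mk0 (w / τ w) (div_ne_zero hw0 hτw0)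
    have hd : d ∈ aug K L := mem_aug (Units.mk0 w hw0) τ rfl
    have hcomm : Algebra.norm M (τ w) = σ (Algebra.norm M w) := by
      apply (algebraMap M L).injective
      rw [hτM, norm_fixedField, norm_fixedField, map_prod]
      let e : H ≃ H :=
        { toFun := fun h => ⟨τ⁻¹ * h * τ, hnormal.conj_mem' _ h.2 τ⟩
          invFun := fun h => ⟨τ * h * τ⁻¹, hnormal.conj_mem _ h.2 τ⟩
          left_inv := fun h => Subtype.ext (by group)
          right_inv := fun h => Subtype.ext (by group) }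
      refine Fintype.prod_equiv e _ _ fun h => ?_
      show (h : L ≃ₐ[K] L) (τ w) = τ (τ.symm ((h : L ≃ₐ[K] L) (τ w)))
      rw [AlgEquiv.apply_symm_apply]
    have hNd : Algebra.norm M (d : L) = Algebra.norm M (u : L) := by
      show Algebra.norm M (w / τ w) = _
      rw [div_eq_mul_inv, map_mul, Algebra.norm_inv, hcomm, hw, ← hx, div_eq_mul_inv]
    have hu' : u * d⁻¹ ∈ aug M L := ih M L (isCi_one_finite hK) hcardL (u * d⁻¹) (by
      rw [Units.val_mul, map_mul, Units.val_inv_eq_inv_val, Algebra.norm_inv, hNd]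
      exact mul_inv_cancel₀ (Algebra.norm_ne_zero_iff.mpr u.ne_zero))
    simpa using mul_mem (aug_tower M hu') hd

/-- For a finite Galois extension of a C₁ field the norm-one units are generated by the `w / g w`. -/
theorem mem_aug_of_norm_eq_one {K L : Type v} [Field K] [Field L] [Algebra K L] [FiniteDimensional K L]
    [IsGalois K L] (hK : Curves.IsCr K 1) (u : Lˣ) (hu : Algebra.norm K (u : L) = 1) : u ∈ aug K L := by
  classical
  set q : Lˣ →* Lˣ ⧸ aug K L := QuotientGroup.mk' (aug K L)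
  have htriv : ∀ (g : L ≃ₐ[K] L) (a : Lˣ), q (Units.map (g : L →* L) a) = q a := fun g a => by
    refine QuotientGroup.eq.mpr (mem_aug a g ?_)
    simp [Units.val_inv_eq_inv_val, inv_mul_eq_div]
  have hkey : ∀ p, p.Prime → ∀ P : Sylow p (L ≃ₐ[K] L), q u ^ (P : Subgroup (L ≃ₐ[K] L)).index = 1 := by
    intro p hp P
    haveI := Fact.mk hp
    set H : Subgroup (L ≃ₐ[K] L) := (P : Subgroup (L ≃ₐ[K] L))
    let v : Lˣ := ∏ c : (L ≃ₐ[K] L) ⧸ H, Units.map ((c.out⁻¹ : L ≃ₐ[K] L) : L →* L) u
    have hqv : q v = q u ^ H.index := by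
      simp only [v, map_prod, htriv, Finset.prod_const, Finset.card_univ]
      rw [Subgroup.index, Nat.card_eq_fintype_card]
    let M := IntermediateField.fixedField H
    have hv : Algebra.norm M (v : L) = 1 := by
      apply (algebraMap M L).injective
      rw [norm_fixedField, map_one, Units.coe_prod]
      simp only [map_prod, Units.coe_map, MonoidHom.coe_coe]
      rw [← Fintype.prod_prod_type' (f := fun (h : H) (c : (L ≃ₐ[K] L) ⧸ H) =>
        (h : L ≃ₐ[K] L) ((c.out⁻¹ : L ≃ₐ[K] L) (u : L)))]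
      rw [← show algebraMap K L (Algebra.norm K (u : L)) = 1 by rw [hu, map_one],
        Algebra.norm_eq_prod_automorphisms]
      refine Fintype.prod_bijective (fun x : H × ((L ≃ₐ[K] L) ⧸ H) => (x.1 : L ≃ₐ[K] L) * (x.2.out)⁻¹)
        ?_ _ _ fun x => rfl
      constructor
      · rintro ⟨h, c⟩ ⟨h', c'⟩ e
        have e' : c.out * (h : L ≃ₐ[K] L)⁻¹ = c'.out * (h' : L ≃ₐ[K] L)⁻¹ := by
          simpa [mul_inv_rev] using congrArg Inv.inv e
        have hc : c = c' := by
          have := congrArg (fun g : L ≃ₐ[K] L => (g : (L ≃ₐ[K] L) ⧸ H)) e'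
          simpa [QuotientGroup.mk_mul_of_mem _ (H.inv_mem h.2), QuotientGroup.mk_mul_of_mem _ (H.inv_mem h'.2)]
            using this
        subst hc
        exact Prod.ext (Subtype.ext (by simpa using e)) rfl
      · intro g
        obtain ⟨h, hh⟩ := QuotientGroup.mk_out_eq_mul H g⁻¹
        refine ⟨(h, (g⁻¹ : L ≃ₐ[K] L)), ?_⟩
        show (h : L ≃ₐ[K] L) * (Quotient.out ((g⁻¹ : L ≃ₐ[K] L) : (L ≃ₐ[K] L) ⧸ H))⁻¹ = g
        rw [hh]; group
    obtain ⟨n, hn⟩ := IsPGroup.iff_card.mp P.isPGroup'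
    have := prime_power_case p hp n M L (isCi_one_finite hK)
      (by rw [← Nat.card_congr (IntermediateField.subgroupEquivAlgEquiv H).toEquiv]; exact hn) v hv
    rw [← hqv]
    exact (QuotientGroup.eq_one_iff v).mpr (aug_tower M this)
  rw [← QuotientGroup.eq_one_iff (N := aug K L), ← orderOf_eq_one_iff]
  by_contra hne
  obtain ⟨p, hp, hpd⟩ := Nat.exists_prime_and_dvd hne
  haveI := Fact.mk hp
  obtain ⟨P⟩ := (inferInstance : Nonempty (Sylow p (L ≃ₐ[K] L)))
  exact P.not_dvd_index (hpd.trans (orderOf_dvd_of_pow_eq_one (hkey p hp P)))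

end Groth.Agent.H61.C1Norm
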