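import Groth.Agent.Lib.Henselian.LocalRing
import Groth.Agent.Lib.Henselian.Unibranch
import Mathlib.FieldTheory.PurelyInseparable.Basic
import Mathlib.FieldTheory.Galois.Profinite
import Mathlib.FieldTheory.KummerPolynomial
import Mathlib.GroupTheory.Sylow
import Mathlib.GroupTheory.Nilpotent
import Mathlib.RingTheory.RootsOfUnity.AlgebraicallyClosed
import Mathlib.RingTheory.DiscreteValuationRing.TFAE
import Mathlib.RingTheory.DedekindDomain.IntegralClosure
import Mathlib.RingTheory.LocalRing.ResidueField.Instances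
import Mathlib.RingTheory.Polynomial.Eisenstein.Basic
import Mathlib.RingTheory.Polynomial.GaussLemma

/-!
# Tame inertia over a strictly henselian discrete valuation ring

* `exists_pow_eq_of_isUnit`, `mem_range_of_pow_eq_one`: roots of units, roots of unity.
* `isStrictHens_integralClosure`: the integral closure in a finite separable extension is again one.
* `sylow_eq_zpowers`: Sylow `ℓ`-subgroups of finite Galois groups are cyclic (`ℓ` a unit in the residue field).
* `exists_pow_mul_pow_eq`: in a finite Galois group an element fixing an `ℓ^a`-th root of a uniformizer is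
  a product of two `ℓ^a`-th powers.
-/

universe u

open Polynomial IsLocalRing

namespace Groth.Agent.H61.TameInertia

section Roots

variable {A : Type u} [CommRing A] [HenselianLocalRing A] [IsSepClosed (ResidueField A)]

/-- Units of a strictly henselian ring are `n`-th powers, `n` invertible. -/
theorem exists_pow_eq_of_isUnit {n : ℕ} (hn : IsUnit (n : ResidueField A)) {u : A} (hu : IsUnit u) :
    ∃ v : A, v ^ n = u := by
  have hn0 : n ≠ 0 := by
    rintro rfl
    rw [Nat.cast_zero] at hn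
    exact not_isUnit_zero hn
  haveI : NeZero (n : ResidueField A) := ⟨hn.ne_zero⟩
  obtain ⟨z, hz⟩ := IsSepClosed.exists_pow_nat_eq (residue A u) n
  obtain ⟨v₀, rfl⟩ := residue_surjective z
  have hv₀ : residue A v₀ ≠ 0 := by
    intro h
    rw [h, zero_pow hn0] at hz
    exact (hu.map (residue A)).ne_zero hz.symm
  obtain ⟨v, hv, -⟩ := HenselianLocalRing.is_henselian (X ^ n - C u) (monic_X_pow_sub_C u hn0) v₀
    (by
      rw [← residue_eq_zero_iff, eval_sub, eval_pow, eval_X, eval_C, map_sub, map_pow, hz, sub_self])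
    (by
      rw [← residue_ne_zero_iff_isUnit, derivative_sub, derivative_X_pow, derivative_C, sub_zero,
        eval_mul, eval_C, eval_pow, eval_X, map_mul, map_pow, map_natCast]
      exact mul_ne_zero hn.ne_zero (pow_ne_zero _ hv₀))
  refine ⟨v, ?_⟩
  rw [IsRoot.def, eval_sub, eval_pow, eval_X, eval_C, sub_eq_zero] at hv
  exact hv

/-- A strictly henselian ring contains all `n`-th roots of unity of any domain containing it. -/
theorem exists_isPrimitiveRoot {n : ℕ} (hn : IsUnit (n : ResidueField A)) :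
    ∃ a : A, IsPrimitiveRoot a n := by
  haveI : NeZero (n : ResidueField A) := ⟨hn.ne_zero⟩
  obtain ⟨z, hz⟩ := HasEnoughRootsOfUnity.exists_primitiveRoot (ResidueField A) n
  have hn0 : n ≠ 0 := by
    rintro rfl
    rw [Nat.cast_zero] at hn
    exact not_isUnit_zero hn
  obtain ⟨v₀, rfl⟩ := residue_surjective z
  obtain ⟨v, hv, hvv⟩ := HenselianLocalRing.is_henselian (X ^ n - C 1) (monic_X_pow_sub_C _ hn0) v₀
    (by
      rw [← residue_eq_zero_iff, eval_sub, eval_pow, eval_X, eval_C, map_sub, map_pow,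
        hz.pow_eq_one, map_one, sub_self])
    (by
      rw [← residue_ne_zero_iff_isUnit, derivative_sub, derivative_X_pow, derivative_C, sub_zero,
        eval_mul, eval_C, eval_pow, eval_X, map_mul, map_pow, map_natCast]
      exact mul_ne_zero hn.ne_zero (pow_ne_zero _ (hz.ne_zero hn0)))
  rw [IsRoot.def, eval_sub, eval_pow, eval_X, eval_C, sub_eq_zero] at hv
  have hvr : residue A v = residue A v₀ := by
    rw [← sub_eq_zero, ← map_sub, residue_eq_zero_iff]
    exact hvv
  refine ⟨v, hv, fun l hl => hz.dvd_of_pow_eq_one l ?_⟩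
  rw [← hvr, ← map_pow, hl, map_one]

theorem mem_range_of_pow_eq_one [IsDomain A] {B : Type*} [CommRing B] [IsDomain B] {f : A →+* B}
    (hf : Function.Injective f) {n : ℕ} (hn : IsUnit (n : ResidueField A)) {ζ : B} (hζ : ζ ^ n = 1) :
    ∃ a : A, f a = ζ ∧ a ^ n = 1 := by
  obtain ⟨a, ha⟩ := exists_isPrimitiveRoot (A := A) hn
  haveI : NeZero n := ⟨by
    rintro rfl
    rw [Nat.cast_zero] at hn
    exact not_isUnit_zero hn⟩
  obtain ⟨i, -, hi⟩ := (ha.map_of_injective hf).eq_pow_of_pow_eq_one hζ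
  exact ⟨a ^ i, by rw [map_pow, hi], by rw [← pow_mul, mul_comm, pow_mul, ha.pow_eq_one, one_pow]⟩

end Roots

variable (R : Type u) [CommRing R] [IsDomain R] [IsDiscreteValuationRing R] [HenselianLocalRing R]
  [IsSepClosed (ResidueField R)]
  (K : Type u) [Field K] [Algebra R K] [IsFractionRing R K]

/-- The integral closure in a finite separable extension is a strictly henselian discrete valuation ring. -/
theorem isStrictHens_integralClosure (E : Type u) [Field E] [Algebra K E] [Algebra R E]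
    [IsScalarTower R K E] [FiniteDimensional K E] [Algebra.IsSeparable K E] :
    ∃ (O : Type u) (_ : CommRing O) (_ : IsDomain O) (_ : IsDiscreteValuationRing O)
      (_ : HenselianLocalRing O) (_ : IsSepClosed (ResidueField O)) (_ : Algebra R O) (f : O →+* E),
      (∀ r : R, f (algebraMap R O r) = algebraMap R E r) ∧ Function.Injective f ∧
      (∀ x : E, ∃ a b : O, b ≠ 0 ∧ x * f b = f a) ∧
      (∀ l : ℕ, IsUnit (l : ResidueField R) → IsUnit (l : ResidueField O)) := by
  let O := integralClosure R E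
  haveI : IsDedekindDomain O := integralClosure.isDedekindDomain R K E
  haveI : IsFractionRing O E := integralClosure.isFractionRing_of_finite_extension K E
  haveI : Module.Finite R O := IsIntegralClosure.finite R K E O
  haveI : IsLocalRing O := Groth.Agent.Lib.Henselian.Unibranch.isLocalRing_of_isDomain R O
  haveI : HenselianLocalRing O :=
    Groth.Agent.Lib.Henselian.LocalRing.henselianLocalRing_of_isIntegral R O
  have hinj : Function.Injective (algebraMap R O) := fun x y h => by
    have h' := congrArg (algebraMap O E) h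
    rw [← IsScalarTower.algebraMap_apply R O E, ← IsScalarTower.algebraMap_apply R O E,
      IsScalarTower.algebraMap_apply R K E, IsScalarTower.algebraMap_apply R K E] at h'
    exact IsFractionRing.injective R K ((algebraMap K E).injective h')
  haveI : FaithfulSMul R O := (faithfulSMul_iff_algebraMap_injective R O).2 hinj
  haveI : IsLocalHom (algebraMap R O) :=
    RingHom.IsIntegral.isLocalHom (Algebra.IsIntegral.isIntegral (R := R) (A := O)) hinj
  haveI : Module.Finite (ResidueField R) (ResidueField O) :=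
    Module.Finite.of_restrictScalars_finite R _ _
  haveI : IsSepClosed (ResidueField O) := Algebra.IsAlgebraic.isSepClosed (F := ResidueField R)
  have hnf : ¬IsField O := fun h => IsDiscreteValuationRing.not_isField R
    (isField_of_isIntegral_of_isField hinj h)
  haveI : IsNoetherianRing O := inferInstance
  haveI : IsDiscreteValuationRing O := by
    have h : IsDiscreteValuationRing O ↔ IsDedekindDomain O :=
      (IsDiscreteValuationRing.TFAE O hnf).out 0 2
    exact h.mpr inferInstance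
  refine ⟨O, inferInstance, inferInstance, inferInstance, inferInstance, inferInstance, inferInstance,
    algebraMap O E, fun r => (IsScalarTower.algebraMap_apply R O E r).symm, IsFractionRing.injective O E,
    fun x => ?_, fun l hl => ?_⟩
  · obtain ⟨a, b, hb, hab⟩ := IsFractionRing.div_surjective (A := O) x
    refine ⟨a, b, nonZeroDivisors.ne_zero hb, ?_⟩
    rw [← hab, div_mul_cancel₀]
    exact IsFractionRing.to_map_ne_zero_of_mem_nonZeroDivisors hb
  · have := hl.map (algebraMap (ResidueField R) (ResidueField O))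
    rwa [map_natCast] at this

/-- `X ^ n - ϖ` is irreducible over `K`. -/
theorem irreducible_X_pow_sub_C {ϖ : R} (hϖ : Irreducible ϖ) {n : ℕ} (hn : n ≠ 0) :
    Irreducible (X ^ n - C (algebraMap R K ϖ)) := by
  have hmon : (X ^ n - C ϖ : R[X]).Monic := monic_X_pow_sub_C ϖ hn
  have hdeg : (X ^ n - C ϖ : R[X]).natDegree = n := natDegree_X_pow_sub_C
  have hmax : maximalIdeal R = Ideal.span {ϖ} := hϖ.maximalIdeal_eq
  have he : (X ^ n - C ϖ : R[X]).IsEisensteinAt (maximalIdeal R) := by
    refine hmon.isEisensteinAt_of_mem_of_notMem (maximalIdeal.isMaximal R).ne_top (fun {i} hi => ?_) ?_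
    · rw [hdeg] at hi
      rw [coeff_sub, coeff_X_pow, if_neg hi.ne, zero_sub, coeff_C]
      split_ifs
      · exact neg_mem (hmax ▸ Ideal.mem_span_singleton_self ϖ)
      · rw [neg_zero]; exact zero_mem _
    · rw [coeff_sub, coeff_X_pow, if_neg (Ne.symm hn), zero_sub, coeff_C_zero, hmax,
        Ideal.span_singleton_pow, Ideal.mem_span_singleton, dvd_neg]
      intro hdvd
      obtain ⟨c, hc⟩ := hdvd
      refine hϖ.not_isUnit (IsUnit.of_mul_eq_one c ?_)
      have h2 : ϖ * 1 = ϖ * (ϖ * c) := by rw [mul_one, ← mul_assoc, ← pow_two, ← hc]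
      exact (mul_left_cancel₀ hϖ.ne_zero h2).symm
  have hirr := he.irreducible inferInstance hmon.isPrimitive (by rw [hdeg]; exact Nat.pos_of_ne_zero hn)
  have h := (hmon.irreducible_iff_irreducible_map_fraction_map (K := K)).1 hirr
  rwa [Polynomial.map_sub, Polynomial.map_pow, map_X, map_C] at h

variable (L : Type u) [Field L] [Algebra K L] [Algebra R L] [IsScalarTower R K L]
  [FiniteDimensional K L] [IsGalois K L]

theorem commutes_of_pow_eq_one {l : ℕ} (hl : IsUnit (l : ResidueField R)) {ζ : L} (hζ : ζ ^ l = 1)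
    (σ : L ≃ₐ[K] L) : σ ζ = ζ := by
  obtain ⟨a, rfl, -⟩ := mem_range_of_pow_eq_one (f := algebraMap R L)
    (fun x y h => IsFractionRing.injective R K ((algebraMap K L).injective (by
      rwa [← IsScalarTower.algebraMap_apply R K L, ← IsScalarTower.algebraMap_apply R K L]))) hl hζ
  rw [IsScalarTower.algebraMap_apply R K L, σ.commutes]

/-- All Sylow `ℓ`-subgroups of a finite Galois group over `K` are cyclic. -/
theorem sylow_eq_zpowers {l : ℕ} [hl : Fact l.Prime] (hlu : IsUnit (l : ResidueField R))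
    (S : Sylow l (L ≃ₐ[K] L)) : ∃ τ : L ≃ₐ[K] L, (S : Subgroup (L ≃ₐ[K] L)) = Subgroup.zpowers τ := by
  set H : Subgroup (L ≃ₐ[K] L) := ↑S with hH
  by_cases htriv : H = ⊥
  · exact ⟨1, by rw [htriv, Subgroup.zpowers_one_eq_bot]⟩
  let E := IntermediateField.fixedField H
  letI : Algebra R E := ((algebraMap K E).comp (algebraMap R K)).toAlgebra
  haveI : IsScalarTower R K E := IsScalarTower.of_algebraMap_eq fun _ => rfl
  haveI : Algebra.IsSeparable K E := Algebra.isSeparable_tower_bot_of_isSeparable K E L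
  obtain ⟨O, _, _, _, _, _, _, f, -, hf, hfrac, hunit⟩ := isStrictHens_integralClosure R K E
  obtain ⟨ϖ, hϖ⟩ := IsDiscreteValuationRing.exists_irreducible O
  let g₀ : O →+* L := (algebraMap E L).comp f
  have hg₀ : Function.Injective g₀ := (algebraMap E L).injective.comp hf
  have hfix : ∀ (σ : L ≃ₐ[K] L), σ ∈ H → ∀ o : O, σ (g₀ o) = g₀ o := fun σ hσ o =>
    (f o).2 ⟨σ, hσ⟩
  have hunit' := hunit l hlu
  -- key: for each maximal subgroup there is an element of `L`
  have key : ∀ M : Subgroup H, IsCoatom M →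
      ∃ β : L, β ^ l = g₀ ϖ ∧ ∀ h : H, h ∈ M ↔ (h : L ≃ₐ[K] L) β = β := by
    intro M hM
    have hp : IsPGroup l H := S.isPGroup'
    haveI := hp.isNilpotent
    haveI : M.Normal := Subgroup.NormalizerCondition.normal_of_coatom M normalizerCondition_of_isNilpotent hM
    have hidx : M.index = l := by
      obtain ⟨b, hb⟩ := IsPGroup.iff_card.1 (hp.to_subgroup M)
      obtain ⟨c, hc⟩ := IsPGroup.iff_card.1 hp
      have hbc : b < c := by
        by_contra hcon
        refine hM.1 (Subgroup.eq_top_of_le_card _ ?_)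
        rw [hb, hc]
        exact Nat.pow_le_pow_right hl.out.pos (not_lt.1 hcon)
      obtain ⟨M', hM', hMM'⟩ := Sylow.exists_subgroup_card_pow_prime_le l
        (n := b) (m := b + 1) (G := H) (by rw [hc]; exact pow_dvd_pow l hbc) M hb (Nat.le_succ b)
      have hne : M ≠ M' := fun h => by
        rw [h] at hb
        rw [hb] at hM'
        exact absurd (Nat.pow_right_injective hl.out.two_le hM') (by omega)
      have htop : M' = ⊤ := hM.2 M' (lt_of_le_of_ne hMM' hne)
      rw [htop, Subgroup.card_top, hc] at hM'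
      have h := M.card_mul_index
      rw [hb, hc, hM', pow_succ] at h
      exact Nat.eq_of_mul_eq_mul_left (pow_pos hl.out.pos b) h
    obtain ⟨g, hg⟩ : ∃ g : H, g ∉ M := by
      by_contra hcon
      push_neg at hcon
      exact hM.1 (Subgroup.eq_top_iff' M |>.2 hcon)
    have hgl : g ^ l ∈ M := hidx ▸ M.pow_index_mem g
    let ML : Subgroup (L ≃ₐ[K] L) := M.map H.subtype
    obtain ⟨x, hxM, hxg⟩ : ∃ x : L, (∀ h ∈ M, (h : L ≃ₐ[K] L) x = x) ∧ (g : L ≃ₐ[K] L) x ≠ x := by
      by_contra hcon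
      push_neg at hcon
      have : (g : L ≃ₐ[K] L) ∈ ML := by
        rw [← IntermediateField.fixingSubgroup_fixedField ML]
        intro x
        exact hcon x fun h hh => x.2 ⟨h, Subgroup.mem_map_of_mem H.subtype hh⟩
      obtain ⟨g', hg', hgg'⟩ := this
      exact hg (Subtype.ext hgg' ▸ hg')
    have hMconj : ∀ (j : ℕ) (h : H), h ∈ M →
        (h : L ≃ₐ[K] L) (((g ^ j : H) : L ≃ₐ[K] L) x) = ((g ^ j : H) : L ≃ₐ[K] L) x := by
      intro j h hh
      have h1 := hxM _ ((inferInstance : M.Normal).conj_mem h hh (g ^ j)⁻¹)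
      rw [inv_inv] at h1
      have h2 := congrArg (((g ^ j : H) : L ≃ₐ[K] L)) h1
      rw [← AlgEquiv.mul_apply, ← Subgroup.coe_mul] at h2
      rw [show g ^ j * ((g ^ j)⁻¹ * h * g ^ j) = h * g ^ j by group] at h2
      rwa [Subgroup.coe_mul, AlgEquiv.mul_apply] at h2
    -- Lagrange resolvents
    obtain ⟨a, ha⟩ := exists_isPrimitiveRoot (A := O) hunit'
    set z : L := g₀ a with hz
    have hzp : IsPrimitiveRoot z l := ha.map_of_injective hg₀
    let y : ℕ → L := fun i => ∑ j ∈ Finset.range l, z ^ (i * j) * ((g ^ j : H) : L ≃ₐ[K] L) x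
    have hyM : ∀ i, ∀ h ∈ M, (h : L ≃ₐ[K] L) (y i) = y i := by
      intro i h hh
      simp only [y, map_sum, map_mul, map_pow]
      refine Finset.sum_congr rfl fun j _ => ?_
      rw [hz, hfix _ h.2, hMconj j h hh]
    have hgy : ∀ i, z ^ i * (g : L ≃ₐ[K] L) (y i) = y i := by
      intro i
      simp only [y, map_sum, map_mul, map_pow, Finset.mul_sum]
      rw [hz, hfix _ g.2, ← hz]
      let F : ℕ → L := fun j => z ^ (i * j) * ((g ^ j : H) : L ≃ₐ[K] L) x
      have hF : ∀ j, z ^ i * (z ^ (i * j) * (g : L ≃ₐ[K] L) (((g ^ j : H) : L ≃ₐ[K] L) x)) = F (j + 1) := by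
        intro j
        simp only [F]
        rw [← mul_assoc, ← pow_add, pow_succ' g j, Subgroup.coe_mul, AlgEquiv.mul_apply]
        congr 2
        ring
      simp only [hF]
      have h0 : F l = F 0 := by
        simp only [F, mul_zero, pow_zero]
        rw [hxM _ hgl, mul_comm i, pow_mul, hzp.pow_eq_one, one_pow]
        simp
      have h1 := Finset.sum_range_succ' F l
      rw [Finset.sum_range_succ, h0] at h1
      exact (add_right_cancel h1).symm
    have hsum : ∑ i ∈ Finset.range l, y i = (l : L) * x := by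
      simp only [y]
      rw [Finset.sum_comm, Finset.sum_eq_single 0]
      · simp
      · intro j hj hj0
        rw [← Finset.sum_mul]
        have hne : z ^ j ≠ 1 := fun h => by
          have := Nat.le_of_dvd (Nat.pos_of_ne_zero hj0) (hzp.dvd_of_pow_eq_one j h)
          have := Finset.mem_range.1 hj
          omega
        have hs : ∑ i ∈ Finset.range l, z ^ (i * j) = 0 := by
          simp_rw [mul_comm _ j, pow_mul]
          rw [geom_sum_eq hne, ← pow_mul, mul_comm, pow_mul, hzp.pow_eq_one, one_pow, sub_self, zero_div]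
        rw [hs, zero_mul]
      · intro h
        exact absurd (Finset.mem_range.2 hl.out.pos) h
    have hlL : (l : L) ≠ 0 := by
      intro h
      have h' : g₀ (l : O) = g₀ 0 := by rw [map_natCast, map_zero, h]
      have h2 := congrArg (residue O) (hg₀ h')
      rw [map_natCast, map_zero] at h2
      exact hunit'.ne_zero h2
    obtain ⟨i, hi, hyi⟩ : ∃ i, ¬ l ∣ i ∧ y i ≠ 0 := by
      by_contra hcon
      push_neg at hcon
      rw [Finset.sum_eq_single 0 (fun i hi hi0 => hcon i fun hd =>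
          absurd (Nat.le_of_dvd (Nat.pos_of_ne_zero hi0) hd) (not_le.2 (Finset.mem_range.1 hi)))
        (fun h => absurd (Finset.mem_range.2 hl.out.pos) h)] at hsum
      have h := hgy 0
      rw [pow_zero, one_mul, hsum, map_mul, map_natCast] at h
      exact hxg (mul_left_cancel₀ hlL h)
    have hzi : z ^ i ≠ 1 := fun h => hi (hzp.dvd_of_pow_eq_one i h)
    have hgne : (g : L ≃ₐ[K] L) (y i) ≠ y i := by
      intro h
      have := hgy i
      rw [h] at this
      exact hzi (mul_right_cancel₀ hyi (this.trans (one_mul _).symm))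
    -- the stabilizer of any element fixed by `M` and moved by `g` is `M`
    have hstab : ∀ β : L, (∀ h ∈ M, (h : L ≃ₐ[K] L) β = β) → (g : L ≃ₐ[K] L) β ≠ β →
        ∀ h : H, h ∈ M ↔ (h : L ≃ₐ[K] L) β = β := by
      intro β hβ hgβ h
      refine ⟨hβ h, fun hh => ?_⟩
      by_contra hhM
      let St : Subgroup H := (MulAction.stabilizer (L ≃ₐ[K] L) β).subgroupOf H
      have hle : M ≤ St := fun m hm => Subgroup.mem_subgroupOf.2 (hβ m hm)
      have htop : St = ⊤ := hM.2 St (lt_of_le_of_ne hle fun he => hhM (he ▸ Subgroup.mem_subgroupOf.2 hh))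
      exact hgβ (Subgroup.mem_subgroupOf.1 (htop.ge (Subgroup.mem_top g)))
    -- `y i ^ l` lies in `E`
    have hyl : ∀ σ ∈ H, σ (y i ^ l) = y i ^ l := by
      intro σ hσ
      let St : Subgroup H := (MulAction.stabilizer (L ≃ₐ[K] L) (y i ^ l)).subgroupOf H
      have hle : M ≤ St := fun m hm => Subgroup.mem_subgroupOf.2 (by
        show (m : L ≃ₐ[K] L) (y i ^ l) = y i ^ l
        rw [map_pow, hyM i m hm])
      have hgSt : g ∈ St := Subgroup.mem_subgroupOf.2 (by
        show (g : L ≃ₐ[K] L) (y i ^ l) = y i ^ l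
        conv_rhs => rw [← hgy i]
        rw [map_pow, mul_pow, ← pow_mul, mul_comm i, pow_mul, hzp.pow_eq_one, one_pow, one_mul])
      have htop : St = ⊤ := hM.2 St (lt_of_le_of_ne hle fun he => hg (he ▸ hgSt))
      exact Subgroup.mem_subgroupOf.1 (htop.ge (Subgroup.mem_top (⟨σ, hσ⟩ : H)))
    obtain ⟨o₁, o₂, ho₂, ho⟩ := hfrac ⟨y i ^ l, fun σ => hyl σ.1 σ.2⟩
    have ho' : y i ^ l * g₀ o₂ = g₀ o₁ := congrArg (algebraMap E L) ho
    have ho₁ : o₁ ≠ 0 := by
      rintro rfl
      rw [map_zero, mul_eq_zero] at ho'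
      rcases ho' with h | h
      · exact hyi (pow_eq_zero_iff hl.out.ne_zero |>.1 h)
      · exact ho₂ (hg₀ (h.trans (map_zero g₀).symm))
    obtain ⟨q₁, u₁, rfl⟩ := IsDiscreteValuationRing.eq_unit_mul_pow_irreducible ho₁ hϖ
    obtain ⟨q₂, u₂, rfl⟩ := IsDiscreteValuationRing.eq_unit_mul_pow_irreducible ho₂ hϖ
    obtain ⟨v, hv⟩ := exists_pow_eq_of_isUnit hunit' (u₁ * u₂⁻¹).isUnit
    -- natural exponent
    have hpow : (y i * g₀ ϖ ^ q₂) ^ l = g₀ v ^ l * g₀ ϖ ^ (q₁ + (l - 1) * q₂) := by
      have e : g₀ ↑u₂ * g₀ ↑(u₁ * u₂⁻¹) = g₀ ↑u₁ := by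
        rw [← map_mul, ← Units.val_mul, mul_comm u₁, mul_inv_cancel_left]
      simp only [map_mul, map_pow] at ho'
      have hu₂ : g₀ ↑u₂ ≠ 0 := fun h => u₂.ne_zero (hg₀ (h.trans (map_zero g₀).symm))
      have hlq : q₂ * l = q₂ + (l - 1) * q₂ := by
        conv_lhs => rw [show l = 1 + (l - 1) by have := hl.out.pos; omega]
        ring
      rw [← map_pow g₀ v, hv, mul_pow, ← pow_mul, hlq, pow_add, pow_add]
      apply mul_left_cancel₀ hu₂
      rw [← mul_assoc (g₀ ↑u₂) (g₀ ↑(u₁ * u₂⁻¹)), e]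
      linear_combination (g₀ ϖ ^ ((l - 1) * q₂)) * ho'
    set N := q₁ + (l - 1) * q₂ with hN
    have hv0 : g₀ v ≠ 0 := fun h => by
      have h' : v = 0 := hg₀ (h.trans (map_zero g₀).symm)
      rw [h', zero_pow hl.out.ne_zero] at hv
      exact (u₁ * u₂⁻¹).ne_zero hv.symm
    have hϖ0 : g₀ ϖ ≠ 0 := fun h => hϖ.ne_zero (hg₀ (h.trans (map_zero g₀).symm))
    let y' : L := y i * g₀ ϖ ^ q₂ / (g₀ v * g₀ ϖ ^ (N / l))
    have hy'l : y' ^ l = g₀ ϖ ^ (N % l) := by
      simp only [y', div_pow, hpow, mul_pow, ← pow_mul]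
      rw [mul_div_mul_left _ _ (pow_ne_zero _ hv0), div_eq_iff (pow_ne_zero _ hϖ0), ← pow_add]
      congr 1
      rw [mul_comm, Nat.mod_add_div]
    have hy'M : ∀ h ∈ M, (h : L ≃ₐ[K] L) y' = y' := fun h hh => by
      simp only [y', map_div₀, map_mul, map_pow, hfix _ h.2, hyM i h hh]
    have hy'g : (g : L ≃ₐ[K] L) y' ≠ y' := fun h => by
      simp only [y', map_div₀, map_mul, map_pow, hfix _ g.2] at h
      rw [div_left_inj' (mul_ne_zero hv0 (pow_ne_zero _ hϖ0)), mul_left_inj' (pow_ne_zero _ hϖ0)] at h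
      exact hgne h
    by_cases he : N % l = 0
    · exfalso
      rw [he, pow_zero] at hy'l
      exact hy'g (commutes_of_pow_eq_one R K L hlu hy'l g)
    · have hcop : Nat.Coprime (N % l) l := (Nat.Coprime.symm ((Nat.Prime.coprime_iff_not_dvd hl.out).2
        fun hd => he (Nat.eq_zero_of_dvd_of_lt hd (Nat.mod_lt _ hl.out.pos))))
      obtain ⟨s, -, hs⟩ := Nat.exists_mul_mod_eq_one_of_coprime hcop hl.out.one_lt
      let t := (N % l) * s / l
      have hts : (N % l) * s = 1 + l * t := by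
        conv_lhs => rw [← Nat.mod_add_div ((N % l) * s) l, hs]
      let β : L := y' ^ s / g₀ ϖ ^ t
      have hβl : β ^ l = g₀ ϖ := by
        simp only [β, div_pow]
        rw [div_eq_iff (pow_ne_zero _ (pow_ne_zero _ hϖ0)), ← pow_mul, mul_comm s l, pow_mul, hy'l,
          ← pow_mul, hts, ← pow_mul, mul_comm l t, pow_add, pow_one]
      refine ⟨β, hβl, hstab β (fun h hh => by
        simp only [β, map_div₀, map_pow, hfix _ h.2, hy'M h hh]) fun hgβ => ?_⟩
      -- a uniformizer is not an `l`-th power in `E`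
      let St : Subgroup H := (MulAction.stabilizer (L ≃ₐ[K] L) β).subgroupOf H
      have hle : M ≤ St := fun m hm => Subgroup.mem_subgroupOf.2 (by
        show (m : L ≃ₐ[K] L) β = β
        simp only [β, map_div₀, map_pow, hfix _ m.2, hy'M m hm])
      have htop : St = ⊤ := hM.2 St (lt_of_le_of_ne hle fun he => hg (he ▸ Subgroup.mem_subgroupOf.2 hgβ))
      obtain ⟨a, b, hb, hab⟩ := hfrac ⟨β, fun σ =>
        Subgroup.mem_subgroupOf.1 (htop.ge (Subgroup.mem_top (⟨σ.1, σ.2⟩ : H)))⟩
      have hab' : β * g₀ b = g₀ a := congrArg (algebraMap E L) hab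
      have heq : ϖ * b ^ l = a ^ l := hg₀ (by rw [map_mul, map_pow, map_pow, ← hab', mul_pow, hβl])
      have ha0 : a ≠ 0 := by
        rintro rfl
        rw [zero_pow hl.out.ne_zero, mul_eq_zero] at heq
        exact heq.elim hϖ.ne_zero fun h => hb (pow_eq_zero_iff hl.out.ne_zero |>.1 h)
      obtain ⟨pa, ua, rfl⟩ := IsDiscreteValuationRing.eq_unit_mul_pow_irreducible ha0 hϖ
      obtain ⟨pb, ub, rfl⟩ := IsDiscreteValuationRing.eq_unit_mul_pow_irreducible hb hϖ
      have heq' : (↑(ub ^ l) : O) * ϖ ^ (pb * l + 1) = ↑(ua ^ l) * ϖ ^ (pa * l) := by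
        simp only [mul_pow, ← pow_mul] at heq
        push_cast
        linear_combination heq
      have h2 := IsDiscreteValuationRing.unit_mul_pow_congr_pow hϖ hϖ _ _ _ _ heq'
      have h3 := congrArg (· % l) h2
      simp only [Nat.mul_add_mod', Nat.mul_mod_left, Nat.one_mod_eq_one.2 hl.out.ne_one] at h3
      exact one_ne_zero h3
  -- conclude
  haveI : Nontrivial H := (Subgroup.nontrivial_iff_ne_bot H).2 htriv
  obtain hbot | ⟨M, hM, -⟩ := eq_top_or_exists_le_coatom (⊥ : Subgroup H)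
  · exact absurd hbot bot_ne_top
  obtain ⟨g, hg⟩ : ∃ g : H, g ∉ M := by
    by_contra hcon
    push_neg at hcon
    exact hM.1 (Subgroup.eq_top_iff' M |>.2 hcon)
  have htop : Subgroup.zpowers g = ⊤ := by
    by_contra hne
    obtain h | ⟨M', hM', hle⟩ := eq_top_or_exists_le_coatom (Subgroup.zpowers g)
    · exact hne h
    obtain ⟨β, hβ, hiff⟩ := key M hM
    obtain ⟨β', hβ', hiff'⟩ := key M' hM'
    have hβ0 : β ≠ 0 := fun h => by
      rw [h, zero_pow hl.out.ne_zero] at hβ
      exact hϖ.ne_zero (hg₀ (hβ.symm.trans (map_zero g₀).symm))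
    have hζ : (β' / β) ^ l = 1 := by rw [div_pow, hβ, hβ', div_self (hβ ▸ pow_ne_zero _ hβ0)]
    have hgfix : (g : L ≃ₐ[K] L) β' = β' := (hiff' g).1 (hle (Subgroup.mem_zpowers g))
    refine hg ((hiff g).2 ?_)
    have h1 := commutes_of_pow_eq_one R K L hlu hζ g
    rw [map_div₀, hgfix] at h1
    have hβ'0 : β' ≠ 0 := fun h => by
      rw [h, zero_pow hl.out.ne_zero] at hβ'
      exact hϖ.ne_zero (hg₀ (hβ'.symm.trans (map_zero g₀).symm))
    have h2 : ((g : L ≃ₐ[K] L) β)⁻¹ = β⁻¹ := by
      rw [div_eq_mul_inv, div_eq_mul_inv] at h1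
      exact mul_left_cancel₀ hβ'0 h1
    exact inv_injective h2
  refine ⟨g, ?_⟩
  have := congrArg (Subgroup.map H.subtype) htop
  rw [MonoidHom.map_zpowers, ← MonoidHom.range_eq_map, Subgroup.range_subtype] at this
  exact this.symm

/-- An element fixing an `ℓ^a`-th root of a uniformizer is a product of two `ℓ^a`-th powers. -/
theorem exists_pow_mul_pow_eq {l : ℕ} [hl : Fact l.Prime] (hlu : IsUnit (l : ResidueField R))
    (a : ℕ) {ϖ : R} (hϖ : Irreducible ϖ) {π : L} (hπ : π ^ l ^ (a + 1) = algebraMap R L ϖ)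
    (σ : L ≃ₐ[K] L) (hσ : σ π = π) :
    ∃ g h : L ≃ₐ[K] L, g ^ l ^ (a + 1) * h ^ l ^ (a + 1) = σ := by
  set n := orderOf σ with hn
  have hn0 : n ≠ 0 := (orderOf_pos σ).ne'
  obtain ⟨e, n', hn', hnn⟩ : ∃ e n', ¬ l ∣ n' ∧ n = l ^ e * n' :=
    Nat.exists_eq_pow_mul_and_not_dvd hn0 l hl.out.ne_one
  have hcop : Nat.Coprime (l ^ e) n' := Nat.Coprime.pow_left e ((Nat.Prime.coprime_iff_not_dvd hl.out).2 hn')
  obtain ⟨u, v, huv⟩ := (Nat.Coprime.isCoprime hcop : IsCoprime ((l ^ e : ℕ) : ℤ) (n' : ℤ))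
  set s₁ := σ ^ (v * (n' : ℤ)) with hs₁
  set s₂ := σ ^ (u * ((l ^ e : ℕ) : ℤ)) with hs₂
  have hdec : s₁ * s₂ = σ := by rw [hs₁, hs₂, ← zpow_add, add_comm, huv, zpow_one]
  have hσn : σ ^ ((l ^ e : ℕ) * n' : ℤ) = 1 := by
    rw [← Nat.cast_mul, ← hnn, zpow_natCast]
    exact pow_orderOf_eq_one σ
  have h₁ : s₁ ^ (l ^ e) = 1 := by
    rw [hs₁, ← zpow_natCast, ← zpow_mul, show v * (n' : ℤ) * ((l ^ e : ℕ) : ℤ) = ((l ^ e : ℕ) * n' : ℤ) * v by ring,
      zpow_mul, hσn, one_zpow]
  have h₂ : s₂ ^ n' = 1 := by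
    rw [hs₂, ← zpow_natCast, ← zpow_mul, show u * ((l ^ e : ℕ) : ℤ) * (n' : ℤ) = ((l ^ e : ℕ) * n' : ℤ) * u by ring,
      zpow_mul, hσn, one_zpow]
  -- the part of order prime to `l`
  have hc2 : Nat.Coprime (l ^ (a + 1)) (orderOf s₂) :=
    Nat.Coprime.of_dvd_right (orderOf_dvd_of_pow_eq_one h₂)
      (Nat.Coprime.pow_left _ ((Nat.Prime.coprime_iff_not_dvd hl.out).2 hn'))
  obtain ⟨m, hm⟩ := exists_pow_eq_self_of_coprime hc2
  -- the `l`-part
  have hs₁fix : s₁ π = π := by
    have hmem : s₁ ∈ MulAction.stabilizer (L ≃ₐ[K] L) π :=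
      Subgroup.zpow_mem _ (show σ ∈ MulAction.stabilizer (L ≃ₐ[K] L) π from hσ) _
    exact hmem
  have hp : IsPGroup l (Subgroup.zpowers s₁) := by
    obtain ⟨j, -, hj⟩ := (Nat.dvd_prime_pow hl.out).1 (orderOf_dvd_of_pow_eq_one h₁)
    exact IsPGroup.iff_card.2 ⟨j, by rw [Nat.card_zpowers, hj]⟩
  obtain ⟨S, hS⟩ := hp.exists_le_sylow
  obtain ⟨τ, hτ⟩ := sylow_eq_zpowers R K L hlu S
  have hs₁S : s₁ ∈ Subgroup.zpowers τ := hτ ▸ hS (Subgroup.mem_zpowers s₁)
  obtain ⟨j, hj⟩ := Subgroup.mem_zpowers_iff.1 hs₁S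
  have hπ0 : π ≠ 0 := by
    intro h
    rw [h, zero_pow (pow_ne_zero _ hl.out.ne_zero), IsScalarTower.algebraMap_apply R K L] at hπ
    exact hϖ.ne_zero (IsFractionRing.injective R K ((algebraMap K L).injective
      (hπ.symm.trans (map_zero _).symm) |>.trans (map_zero _).symm))
  set ζ := τ π / π with hζdef
  have hτπ : τ π = ζ * π := (div_mul_cancel₀ _ hπ0).symm
  have hζ : ζ ^ l ^ (a + 1) = 1 := by
    rw [hζdef, div_pow, ← map_pow, hπ, IsScalarTower.algebraMap_apply R K L, AlgEquiv.commutes,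
      div_self]
    rw [← IsScalarTower.algebraMap_apply R K L, ← hπ]
    exact pow_ne_zero _ hπ0
  have hζu : IsUnit ((l ^ (a + 1) : ℕ) : ResidueField R) := by push_cast; exact hlu.pow _
  -- `τ` moves the `l`-th root
  have hmove : τ (π ^ l ^ a) ≠ π ^ l ^ a := by
    intro hfix
    set β := π ^ l ^ a with hβ
    have hβl : β ^ l = algebraMap K L (algebraMap R K ϖ) := by
      rw [hβ, ← pow_mul, ← pow_succ, hπ, IsScalarTower.algebraMap_apply R K L]
    let E := IntermediateField.fixedField (S : Subgroup (L ≃ₐ[K] L))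
    have hβE : β ∈ E := by
      rintro ⟨σ', hσ'⟩
      have hmem : σ' ∈ MulAction.stabilizer (L ≃ₐ[K] L) β := by
        have : σ' ∈ Subgroup.zpowers τ := hτ ▸ hσ'
        obtain ⟨i, rfl⟩ := Subgroup.mem_zpowers_iff.1 this
        exact Subgroup.zpow_mem _ (show τ ∈ MulAction.stabilizer (L ≃ₐ[K] L) β from hfix) _
      exact hmem
    have hmin : minpoly K β = X ^ l - C (algebraMap R K ϖ) :=
      (minpoly.eq_of_irreducible_of_monic (irreducible_X_pow_sub_C R K hϖ hl.out.ne_zero)
        (by simp [hβl]) (monic_X_pow_sub_C _ hl.out.ne_zero)).symm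
    have hdvd : l ∣ Module.finrank K E := by
      have h : (minpoly K (⟨β, hβE⟩ : E)).natDegree ∣ Module.finrank K E :=
        minpoly.degree_dvd (IsIntegral.of_finite K _)
      rwa [← minpoly.algebraMap_eq (algebraMap E L).injective, show algebraMap E L ⟨β, hβE⟩ = β from rfl,
        hmin, natDegree_X_pow_sub_C] at h
    have h1 := Module.finrank_mul_finrank K E L
    rw [IntermediateField.finrank_fixedField_eq_card, ← IsGalois.card_aut_eq_finrank K L,
      ← Subgroup.card_mul_index (S : Subgroup (L ≃ₐ[K] L)), mul_comm] at h1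
    have h2 : Module.finrank K E = (S : Subgroup (L ≃ₐ[K] L)).index :=
      Nat.eq_of_mul_eq_mul_left Nat.card_pos h1
    exact S.not_dvd_index (h2 ▸ hdvd)
  have hord : orderOf ζ = l ^ (a + 1) := by
    refine orderOf_eq_prime_pow (fun h => hmove ?_) hζ
    rw [map_pow, hτπ, mul_pow, h, one_mul]
  -- powers of `τ`
  have hτi : ∀ i : ℕ, (τ ^ i) π = ζ ^ i * π := by
    intro i
    induction i with
    | zero => simp
    | succ i ih =>
      rw [pow_succ', AlgEquiv.mul_apply, ih, map_mul, map_pow,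
        commutes_of_pow_eq_one R K L hζu hζ τ, hτπ, ← mul_assoc, ← pow_succ]
  have hdvd : ((l ^ (a + 1) : ℕ) : ℤ) ∣ j := by
    have hfin : IsOfFinOrder τ := isOfFinOrder_of_finite τ
    obtain ⟨i, hi⟩ : ∃ i : ℕ, τ ^ i = τ ^ j := by
      have : τ ^ j ∈ Submonoid.powers τ := hfin.mem_powers_iff_mem_zpowers.2 ⟨j, rfl⟩
      exact this
    have h := hτi i
    rw [hi, hj, hs₁fix] at h
    have hζi : ζ ^ i = 1 := mul_right_cancel₀ hπ0 (h.symm.trans (one_mul π).symm)
    have h1 : (orderOf τ : ℤ) ∣ j - i := by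
      rw [orderOf_dvd_iff_zpow_eq_one, zpow_sub, zpow_natCast, hi, mul_inv_cancel]
    have h2 : l ^ (a + 1) ∣ i := hord ▸ orderOf_dvd_of_pow_eq_one hζi
    have h3 : l ^ (a + 1) ∣ orderOf τ := by
      rw [← hord]
      refine orderOf_dvd_of_pow_eq_one ?_
      have := hτi (orderOf τ)
      rw [pow_orderOf_eq_one, AlgEquiv.one_apply] at this
      exact mul_right_cancel₀ hπ0 (this.symm.trans (one_mul π).symm)
    have := dvd_add ((Int.natCast_dvd_natCast.2 h3).trans h1) (Int.natCast_dvd_natCast.2 h2)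
    rwa [sub_add_cancel] at this
  obtain ⟨d, hd⟩ := hdvd
  refine ⟨τ ^ d, s₂ ^ m, ?_⟩
  rw [← pow_mul, mul_comm m, pow_mul, hm, ← zpow_natCast (τ ^ d), ← zpow_mul, mul_comm d, ← hd, hj, hdec]

end Groth.Agent.H61.TameInertia
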