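import Mathlib.Algebra.Module.Submodule.Map
import Mathlib.LinearAlgebra.Quotient.Basic
import Mathlib.LinearAlgebra.Quotient.Card
import Mathlib.LinearAlgebra.Pi
import Mathlib.SetTheory.Cardinal.Finite
import Mathlib.SetTheory.Cardinal.NatCard
import Mathlib.Algebra.BigOperators.Finprod
import Mathlib.Data.Fintype.BigOperators

/-!
# Cancellation of powers for finite modules (Lovász)
-/

universe u v

namespace Groth.Agent.H61.FiniteCancel

variable {S : Type u} [Ring S]

noncomputable def homKerEquiv (Z X : Type v) [AddCommGroup Z] [Module S Z] [AddCommGroup X]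
    [Module S X] (L : Submodule S Z) :
    {f : Z →ₗ[S] X // LinearMap.ker f = L} ≃ {g : (Z ⧸ L) →ₗ[S] X // LinearMap.ker g = ⊥} where
  toFun f := ⟨L.liftQ f.1 f.2.ge, Submodule.ker_liftQ_eq_bot _ _ _ f.2.le⟩
  invFun g := ⟨g.1 ∘ₗ L.mkQ, by rw [LinearMap.ker_comp, g.2, Submodule.comap_bot, L.ker_mkQ]⟩
  left_inv f := Subtype.ext (L.liftQ_mkQ _ _)
  right_inv g := Subtype.ext (by ext; rfl)

theorem nonempty_linearEquiv {X Y : Type v} [AddCommGroup X] [Module S X] [AddCommGroup Y]
    [Module S Y] [Finite X] [Finite Y] {n : ℕ} (hn : n ≠ 0)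
    (e : (Fin n → X) ≃ₗ[S] (Fin n → Y)) : Nonempty (X ≃ₗ[S] Y) := by
  classical
  have hfin : ∀ (Z T : Type v) [AddCommGroup Z] [Module S Z] [AddCommGroup T] [Module S T]
      [Finite Z] [Finite T], Finite (Z →ₗ[S] T) := fun Z T _ _ _ _ _ _ =>
    Finite.of_injective (fun f => (f : Z → T)) DFunLike.coe_injective
  have hom : ∀ (Z : Type v) [AddCommGroup Z] [Module S Z] [Finite Z],
      Nat.card (Z →ₗ[S] X) = Nat.card (Z →ₗ[S] Y) := by
    intro Z _ _ _
    apply Nat.pow_left_injective hn
    have E : ∀ (T : Type v) [AddCommGroup T] [Module S T],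
        (Fin n → (Z →ₗ[S] T)) ≃ (Z →ₗ[S] (Fin n → T)) := fun T _ _ =>
      { toFun := LinearMap.pi
        invFun := fun f i => LinearMap.proj i ∘ₗ f
        left_inv := fun f => funext fun i => by ext; rfl
        right_inv := fun f => by ext; rfl }
    have h := Nat.card_congr ((E X).trans
      (({ toFun := fun f => (e : (Fin n → X) →ₗ[S] (Fin n → Y)) ∘ₗ f
          invFun := fun f => (e.symm : (Fin n → Y) →ₗ[S] (Fin n → X)) ∘ₗ f
          left_inv := fun f => by ext; simp
          right_inv := fun f => by ext; simp } : (Z →ₗ[S] (Fin n → X)) ≃ (Z →ₗ[S] (Fin n → Y))).trans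
        (E Y).symm))
    rw [Nat.card_fun, Nat.card_fun, Nat.card_eq_fintype_card (α := Fin n), Fintype.card_fin] at h
    exact h
  have inj : ∀ (N : ℕ) (Z : Type v) [AddCommGroup Z] [Module S Z] [Finite Z], Nat.card Z = N →
      Nat.card {f : Z →ₗ[S] X // LinearMap.ker f = ⊥} =
        Nat.card {f : Z →ₗ[S] Y // LinearMap.ker f = ⊥} := by
    intro N
    induction N using Nat.strong_induction_on with
    | _ N ih =>
      intro Z _ _ _ hN
      have : Finite (Z →ₗ[S] X) := hfin Z X
      have : Finite (Z →ₗ[S] Y) := hfin Z Y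
      have : Finite (Submodule S Z) :=
        Finite.of_injective (fun L => (L : Set Z)) SetLike.coe_injective
      let := Fintype.ofFinite (Submodule S Z)
      have dec : ∀ (T : Type v) [AddCommGroup T] [Module S T] [Finite (Z →ₗ[S] T)],
          Nat.card (Z →ₗ[S] T) = ∑ L : Submodule S Z, Nat.card {f : Z →ₗ[S] T // LinearMap.ker f = L} := by
        intro T _ _ _
        rw [← Nat.card_congr (Equiv.sigmaFiberEquiv (fun f : Z →ₗ[S] T => LinearMap.ker f)),
          Nat.card_sigma]
      have h := hom Z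
      rw [dec X, dec Y, ← Finset.add_sum_erase _ _ (Finset.mem_univ (⊥ : Submodule S Z)),
        ← Finset.add_sum_erase _ _ (Finset.mem_univ (⊥ : Submodule S Z))] at h
      rw [Finset.sum_congr rfl (fun L hL => ?_)] at h
      · exact Nat.add_right_cancel h
      · have hL' : L ≠ ⊥ := (Finset.mem_erase.mp hL).1
        rw [Nat.card_congr (homKerEquiv Z X L), Nat.card_congr (homKerEquiv Z Y L)]
        have : Finite (Z ⧸ L) := Finite.of_surjective _ (Submodule.mkQ_surjective L)
        refine ih _ ?_ (Z ⧸ L) rfl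
        rw [← hN, Submodule.card_eq_card_quotient_mul_card L]
        have h2 : 1 < Nat.card L := by
          have : Nontrivial L := Submodule.nontrivial_iff_ne_bot.mpr hL'
          exact Finite.one_lt_card_iff_nontrivial.mpr inferInstance
        exact lt_mul_of_one_lt_left Nat.card_pos h2
  have mk : ∀ {P Q : Type v} [AddCommGroup P] [Module S P] [AddCommGroup Q] [Module S Q] [Finite P]
      [Finite Q], Nat.card {f : P →ₗ[S] P // LinearMap.ker f = ⊥} =
        Nat.card {f : P →ₗ[S] Q // LinearMap.ker f = ⊥} →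
      ∃ f : P →ₗ[S] Q, Function.Injective f := by
    intro P Q _ _ _ _ _ _ h
    have : Finite (P →ₗ[S] P) := hfin P P
    have : Nonempty {f : P →ₗ[S] P // LinearMap.ker f = ⊥} := ⟨⟨LinearMap.id, LinearMap.ker_id⟩⟩
    have : 0 < Nat.card {f : P →ₗ[S] Q // LinearMap.ker f = ⊥} := h ▸ Nat.card_pos
    obtain ⟨⟨f, hf⟩⟩ := (Nat.card_pos_iff.mp this).1
    exact ⟨f, LinearMap.ker_eq_bot.mp hf⟩
  obtain ⟨f, hf⟩ := mk (inj _ X rfl)
  obtain ⟨g, hg⟩ := mk (inj _ Y rfl).symm
  exact ⟨LinearEquiv.ofBijective f ((Nat.bijective_iff_injective_and_card _).mpr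
    ⟨hf, le_antisymm (Nat.card_le_card_of_injective _ hf) (Nat.card_le_card_of_injective _ hg)⟩)⟩

end Groth.Agent.H61.FiniteCancel
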