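import Mathlib.LinearAlgebra.Basis.VectorSpace
import Mathlib.LinearAlgebra.Basis.Prod
import Mathlib.LinearAlgebra.Quotient.Basic
import Mathlib.RepresentationTheory.Basic
import Mathlib.Data.ZMod.Basic
import Mathlib.Algebra.Field.ZMod
import Mathlib.Algebra.CharP.Two
import Mathlib.Tactic.Abel
import Mathlib.Tactic.Module

/-!
# An involution in characteristic two permutes a basis
-/

universe u v

namespace Groth.Agent.H61.InvolBasis

variable {V : Type v} [AddCommGroup V] [Module (ZMod 2) V]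

theorem exists_perm_basis (σ : V →ₗ[ZMod 2] V) (hσ : ∀ x, σ (σ x) = x) :
    ∃ (ι : Type v) (b : Module.Basis ι (ZMod 2) V), ∀ i, ∃ j, σ (b i) = b j := by
  let N : V →ₗ[ZMod 2] V := σ + LinearMap.id
  have hN : ∀ x, N x = σ x + x := fun x => rfl
  have h2 : ∀ x : V, x + x = 0 := fun x => by
    rw [← one_smul (ZMod 2) x, ← add_smul, CharTwo.add_self_eq_zero, zero_smul]
  obtain ⟨C, hC⟩ := Submodule.exists_isCompl (LinearMap.ker N)
  obtain ⟨D, hD⟩ := Submodule.exists_isCompl ((LinearMap.range N).comap (LinearMap.ker N).subtype)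
  let L : ((C × C) × D) →ₗ[ZMod 2] V :=
    LinearMap.coprod (LinearMap.coprod C.subtype (σ.comp C.subtype))
      ((LinearMap.ker N).subtype.comp D.subtype)
  have hNd : ∀ d : D, N ((d : LinearMap.ker N) : V) = 0 := fun d => (d : LinearMap.ker N).2
  have hNσ : ∀ x, N (σ x) = N x := fun x => by rw [hN, hN, hσ, add_comm]
  have hCker : ∀ x ∈ C, N x = 0 → x = 0 := fun x hx h0 =>
    Submodule.disjoint_def.mp hC.disjoint x h0 hx
  have inj : Function.Injective L := by
    rw [← LinearMap.ker_eq_bot, LinearMap.ker_eq_bot']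
    rintro ⟨⟨c, c'⟩, d⟩ h
    change (c : V) + σ c' + ((d : LinearMap.ker N) : V) = 0 at h
    have h1 : N ((c : V) + c') = 0 := by
      have := congrArg N h
      rw [map_add, map_add, hNσ, hNd, add_zero, map_zero, ← map_add] at this
      exact this
    have hcc : (c : V) = c' := by
      have h0 := hCker _ (C.add_mem c.2 c'.2) h1
      calc (c : V) = (c : V) + ((c' : V) + c') := by rw [h2, add_zero]
        _ = c' := by rw [← add_assoc, h0, zero_add]
    have hd : ((d : LinearMap.ker N) : V) = N c := by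
      rw [hN, ← sub_eq_zero, sub_eq_add_neg, ← h, hcc]
      rw [neg_eq_of_add_eq_zero_left (h2 (σ ↑c' + ↑c'))]
      abel
    have hd0 : (d : LinearMap.ker N) = 0 :=
      Submodule.disjoint_def.mp hD.disjoint _ (Submodule.mem_comap.mpr ⟨c, hd.symm⟩) d.2
    have hc0 : (c : V) = 0 := hCker _ c.2 (by rw [← hd, hd0]; rfl)
    exact Prod.ext (Prod.ext (Subtype.ext hc0) (Subtype.ext (hcc.symm.trans hc0))) (Subtype.ext hd0)
  have surj : Function.Surjective L := by
    intro x
    obtain ⟨u, hu, c, hc, rfl⟩ := Submodule.mem_sup.mp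
      (hC.sup_eq_top.ge (Submodule.mem_top : x ∈ ⊤))
    obtain ⟨w, hw, d, hd, hud⟩ := Submodule.mem_sup.mp
      (hD.sup_eq_top.ge (Submodule.mem_top : (⟨u, hu⟩ : LinearMap.ker N) ∈ ⊤))
    obtain ⟨z, hz⟩ := Submodule.mem_comap.mp hw
    obtain ⟨z1, hz1, z2, hz2, rfl⟩ := Submodule.mem_sup.mp
      (hC.sup_eq_top.ge (Submodule.mem_top : z ∈ ⊤))
    refine ⟨((⟨z2, hz2⟩ + ⟨c, hc⟩, ⟨z2, hz2⟩), ⟨d, hd⟩), ?_⟩
    change z2 + c + σ z2 + (d : V) = u + c
    have hu' : u = (w : V) + (d : V) := congrArg Subtype.val hud.symm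
    have hw' : (w : V) = σ z2 + z2 := by
      rw [← hN]
      simpa [LinearMap.mem_ker.mp hz1] using hz.symm
    rw [hu', hw']
    abel
  let e := LinearEquiv.ofBijective L ⟨inj, surj⟩
  let bC := Module.Free.chooseBasis (ZMod 2) C
  let bD := Module.Free.chooseBasis (ZMod 2) D
  refine ⟨_, ((bC.prod bC).prod bD).map e, ?_⟩
  rintro ((i | i) | j)
  · exact ⟨Sum.inl (Sum.inr i), by simp [e, L]⟩
  · exact ⟨Sum.inl (Sum.inl i), by simp [e, L, hσ]⟩
  · refine ⟨Sum.inr j, ?_⟩
    have hfix : ∀ d : D, σ ((d : LinearMap.ker N) : V) = ((d : LinearMap.ker N) : V) := fun d => by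
      have h0 := hNd d
      rw [hN, ← eq_neg_iff_add_eq_zero] at h0
      rw [h0]
      exact neg_eq_of_add_eq_zero_left (h2 _)
    simp [e, L, hfix]

end Groth.Agent.H61.InvolBasis
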