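import Mathlib.FieldTheory.KrullTopology
import Mathlib.FieldTheory.IsSepClosed
import Mathlib.FieldTheory.Fixed
import Mathlib.FieldTheory.Galois.Infinite
import Mathlib.RingTheory.Trace.Basic
import Mathlib.Topology.LocallyConstant.Basic

/-!
# Locally constant cocycles of an absolute Galois group
-/

universe u v w

open scoped Topology

namespace Groth.Agent.H61.LcCocycle

variable {K : Type u} {L : Type v} [Field K] [Field L] [Algebra K L] [IsGalois K L]

/-- A locally constant cocycle is pulled back from a finite Galois subextension. -/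
theorem exists_level {α : Type w} (a : (L ≃ₐ[K] L) → α) (ha : IsLocallyConstant a)
    (hmul : ∀ σ h : L ≃ₐ[K] L, a h = a 1 → a (σ * h) = a σ) :
    ∃ E : IntermediateField K L, FiniteDimensional K E ∧ IsGalois K E ∧
      ∀ σ τ : L ≃ₐ[K] L, (∀ x : E, σ x = τ x) → a σ = a τ := by
  have hU : {σ : L ≃ₐ[K] L | a σ = a 1} ∈ 𝓝 (1 : L ≃ₐ[K] L) :=
    (ha.isOpen_fiber (a 1)).mem_nhds rfl
  obtain ⟨E, hfin, hnorm, hE⟩ := (krullTopology_mem_nhds_one_iff_of_normal K L _).mp hU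
  refine ⟨E, hfin, ⟨⟩, fun σ τ h => ?_⟩
  have hmem : σ⁻¹ * τ ∈ E.fixingSubgroup := by
    rw [IntermediateField.mem_fixingSubgroup_iff]
    intro x hx
    rw [AlgEquiv.mul_apply, ← h ⟨x, hx⟩]
    exact σ.symm_apply_apply x
  have := hmul σ (σ⁻¹ * τ) (hE hmem)
  rw [mul_inv_cancel_left] at this
  exact this.symm

theorem exists_lift (E : IntermediateField K L) [IsGalois K E] :
    ∃ s : (E ≃ₐ[K] E) → (L ≃ₐ[K] L), (∀ τ (x : E), s τ x = τ x) ∧
      ∀ σ : L ≃ₐ[K] L, ∀ τ (x : E), (σ * s τ) x = s (AlgEquiv.restrictNormalHom E σ * τ) x := by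
  choose s hs using AlgEquiv.restrictNormalHom_surjective (F := K) (K₁ := E) L
  have h1 : ∀ τ (x : E), s τ x = τ x := fun τ x => by
    conv_rhs => rw [← hs τ, AlgEquiv.restrictNormalHom_apply]
  refine ⟨s, h1, fun σ τ x => ?_⟩
  rw [AlgEquiv.mul_apply, h1, h1, AlgEquiv.mul_apply, AlgEquiv.restrictNormalHom_apply]

theorem exists_sub (a : (L ≃ₐ[K] L) → L) (hlc : IsLocallyConstant a)
    (ha : ∀ σ τ : L ≃ₐ[K] L, a (σ * τ) = a σ + σ (a τ)) :
    ∃ y : L, ∀ σ : L ≃ₐ[K] L, a σ = σ y - y := by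
  have h1 : a 1 = 0 := by
    have := ha 1 1
    rw [one_mul, AlgEquiv.one_apply] at this
    simpa using this
  obtain ⟨E, _, _, hE⟩ := exists_level a hlc
    (fun σ h hh => by rw [ha, hh, h1, map_zero, add_zero])
  obtain ⟨s, hs, hs'⟩ := exists_lift E
  obtain ⟨z, hz⟩ := Algebra.trace_surjective K E 1
  have hsum : ∑ τ : E ≃ₐ[K] E, ((τ z : E) : L) = 1 := by
    have h := congrArg (fun e : E => (e : L)) (trace_eq_sum_automorphisms (K := K) z)
    rw [hz, map_one] at h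
    simpa [eq_comm] using h
  refine ⟨-∑ τ : E ≃ₐ[K] E, a (s τ) * ((τ z : E) : L), fun σ => ?_⟩
  have h2 : ∀ τ : E ≃ₐ[K] E, σ (a (s τ) * ((τ z : E) : L)) =
      (a (s (AlgEquiv.restrictNormalHom E σ * τ)) - a σ) *
        ((AlgEquiv.restrictNormalHom E σ * τ) z : L) := by
    intro τ
    rw [map_mul, ← hE (σ * s τ) _ (hs' σ τ), ha, add_sub_cancel_left, AlgEquiv.mul_apply,
      AlgEquiv.restrictNormalHom_apply]
  rw [map_neg, map_sum, Finset.sum_congr rfl (fun τ _ => h2 τ),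
    Equiv.sum_comp (Equiv.mulLeft (AlgEquiv.restrictNormalHom E σ))
      (fun τ => (a (s τ) - a σ) * ((τ z : E) : L)) |>.symm.symm |> (fun h =>
      (show ∑ τ : E ≃ₐ[K] E, (a (s (AlgEquiv.restrictNormalHom E σ * τ)) - a σ) *
        ((AlgEquiv.restrictNormalHom E σ * τ) z : L) = _ from h))]
  simp only [sub_mul, Finset.sum_sub_distrib, ← Finset.mul_sum, hsum, mul_one]
  ring

theorem exists_mul (a : (L ≃ₐ[K] L) → Lˣ) (hlc : IsLocallyConstant a)
    (ha : ∀ σ τ : L ≃ₐ[K] L, a (σ * τ) = a σ * σ • a τ) :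
    ∃ c : Lˣ, ∀ σ : L ≃ₐ[K] L, a σ = c⁻¹ * σ • c := by
  have h1 : a 1 = 1 := by
    have := ha 1 1
    rw [one_mul, one_smul] at this
    exact mul_left_cancel (this.symm.trans (mul_one _).symm)
  obtain ⟨E, _, _, hE⟩ := exists_level a hlc
    (fun σ h hh => by rw [ha, hh, h1, smul_one, mul_one])
  obtain ⟨s, hs, hs'⟩ := exists_lift E
  obtain ⟨z, hz⟩ : ∃ z : E, ∑ τ : E ≃ₐ[K] E, (a (s τ) : L) * ((τ z : E) : L) ≠ 0 := by
    by_contra hne
    simp only [not_exists, not_not] at hne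
    have li := (linearIndependent_toLinearMap K E L).comp
      (fun τ : E ≃ₐ[K] E => E.val.comp (τ : E →ₐ[K] E))
      (fun τ τ' e => AlgEquiv.ext fun x => Subtype.ext (AlgHom.congr_fun e x))
    exact Units.ne_zero (a (s 1)) (Fintype.linearIndependent_iff.mp li (fun τ => (a (s τ) : L))
      (LinearMap.ext fun x => by simpa using hne x) 1)
  refine ⟨(Units.mk0 _ hz)⁻¹, fun σ => Units.ext ?_⟩
  have h2 : ∀ τ : E ≃ₐ[K] E, (a σ : L) * σ ((a (s τ) : L) * ((τ z : E) : L)) =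
      (a (s (AlgEquiv.restrictNormalHom E σ * τ)) : L) *
        ((AlgEquiv.restrictNormalHom E σ * τ) z : L) := by
    intro τ
    rw [map_mul, ← mul_assoc, ← hE (σ * s τ) _ (hs' σ τ), ha, AlgEquiv.mul_apply,
      AlgEquiv.restrictNormalHom_apply]
    rfl
  have h3 : (a σ : L) * σ (∑ τ : E ≃ₐ[K] E, (a (s τ) : L) * ((τ z : E) : L)) =
      ∑ τ : E ≃ₐ[K] E, (a (s τ) : L) * ((τ z : E) : L) := by
    rw [map_sum, Finset.mul_sum, Finset.sum_congr rfl (fun τ _ => h2 τ)]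
    exact Equiv.sum_comp (Equiv.mulLeft (AlgEquiv.restrictNormalHom E σ))
      (fun τ => (a (s τ) : L) * ((τ z : E) : L))
  rw [inv_inv, Units.val_mul, Units.val_mk0, smul_inv', Units.val_inv_eq_inv_val]
  refine (eq_mul_inv_iff_mul_eq₀ ?_).mpr ?_
  · exact (σ • Units.mk0 _ hz).ne_zero
  · exact h3

end Groth.Agent.H61.LcCocycle
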