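import Groth.Agent.H61.PSFilt
import Groth.Prelude.Def_QuadSing

/-!
Formal Morse lemma: `Q + a + (order > m)` is `Q + a` after a change of variables.
-/

open MvPowerSeries Matrix Groth.Agent.H61.PSFilt VanCyc

namespace Groth.Agent.H61.Morse

universe u
variable {A : Type u} [CommRing A] {n : ℕ}

local notation "P" => MvPowerSeries (Fin n) A

/-- all entries lie in `J` -/
def MemI (J : Ideal P) (M : Matrix (Fin n) (Fin n) P) : Prop := ∀ i j, M i j ∈ J

lemma MemI.mul_right {J : Ideal P} {M : Matrix (Fin n) (Fin n) P} (h : MemI J M)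
    (N : Matrix (Fin n) (Fin n) P) : MemI J (M * N) := fun i j => by
  rw [Matrix.mul_apply]; exact Ideal.sum_mem _ fun l _ => Ideal.mul_mem_right _ _ (h i l)

lemma MemI.mul_left {J : Ideal P} {M : Matrix (Fin n) (Fin n) P} (h : MemI J M)
    (N : Matrix (Fin n) (Fin n) P) : MemI J (N * M) := fun i j => by
  rw [Matrix.mul_apply]; exact Ideal.sum_mem _ fun l _ => Ideal.mul_mem_left _ _ (h l j)

lemma MemI.mul {J K : Ideal P} {M N : Matrix (Fin n) (Fin n) P} (h : MemI J M) (h' : MemI K N) :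
    MemI (J * K) (M * N) := fun i j => by
  rw [Matrix.mul_apply]; exact Ideal.sum_mem _ fun l _ => Ideal.mul_mem_mul (h i l) (h' l j)

lemma MemI.add {J : Ideal P} {M N : Matrix (Fin n) (Fin n) P} (h : MemI J M) (h' : MemI J N) :
    MemI J (M + N) := fun i j => Ideal.add_mem _ (h i j) (h' i j)

lemma MemI.neg {J : Ideal P} {M : Matrix (Fin n) (Fin n) P} (h : MemI J M) :
    MemI J (-M) := fun i j => J.neg_mem (h i j)

lemma MemI.transpose {J : Ideal P} {M : Matrix (Fin n) (Fin n) P} (h : MemI J M) :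
    MemI J Mᵀ := fun i j => h j i

lemma MemI.mono {J K : Ideal P} (hJK : J ≤ K) {M : Matrix (Fin n) (Fin n) P} (h : MemI J M) :
    MemI K M := fun i j => hJK (h i j)

/-- upper triangular coefficient matrix -/
noncomputable def upper (q : Fin n → Fin n → A) : Matrix (Fin n) (Fin n) P :=
  fun i j => if i ≤ j then C (q i j) else 0

lemma polar_eq (q : Fin n → Fin n → A) :
    (polarMatrix q).map (C : A →+* P) = upper q + (upper q)ᵀ := by
  ext i j : 2
  simp only [Matrix.map_apply, polarMatrix, upper, Matrix.add_apply, Matrix.transpose_apply]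
  rcases lt_trichotomy i j with h | rfl | h
  · simp [h.ne, h, h.le, h.not_ge]
  · simp [two_mul]
  · simp [h.ne', h.not_gt, h.le, h.not_ge]

lemma coe_quadPoly (q : Fin n → Fin n → A) :
    ((quadPoly q : MvPolynomial (Fin n) A) : P) = (X : Fin n → P) ⬝ᵥ (upper q *ᵥ (X : Fin n → P)) := by
  rw [← MvPolynomial.coeToMvPowerSeries.ringHom_apply, quadPoly, map_sum]
  simp only [dotProduct, Matrix.mulVec, Finset.mul_sum, map_sum, upper]
  refine Finset.sum_congr rfl fun i _ => Finset.sum_congr rfl fun j _ => ?_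
  split_ifs
  · simp only [map_mul, MvPolynomial.coeToMvPowerSeries.ringHom_apply, MvPolynomial.coe_C,
      MvPolynomial.coe_X]
    ring
  · simp

lemma exists_matrix {k : ℕ} (g : P) (hg : g ∈ XI (Fin n) A ^ (k + 2)) :
    ∃ T : Matrix (Fin n) (Fin n) P, g = (X : Fin n → P) ⬝ᵥ (T *ᵥ (X : Fin n → P)) ∧
      MemI (XI (Fin n) A ^ k) T := by
  have h0 : constantCoeff g = 0 := by
    rw [← coeff_zero_eq_constantCoeff_apply]; exact low_of_mem hg 0 (by simp)
  obtain ⟨a, ha, hak⟩ := exists_decomp g h0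
  have hak' : ∀ i, Low (k + 1) (a i) := hak _ (low_of_mem hg)
  have hd : ∀ i, ∃ b : Fin n → P, a i = ∑ j, X j * b j ∧ ∀ k, Low (k + 1) (a i) → ∀ j, Low k (b j) :=
    fun i => exists_decomp (a i)
      (by rw [← coeff_zero_eq_constantCoeff_apply]; exact hak' i 0 (by simp))
  choose b hb hbk using hd
  refine ⟨b, ?_, fun i j => mem_iff.mpr (hbk i k (hak' i) j)⟩
  rw [ha]
  simp only [dotProduct, Matrix.mulVec, hb]
  refine Finset.sum_congr rfl fun i _ => ?_
  congr 1
  exact Finset.sum_congr rfl fun j _ => mul_comm _ _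

/-- The formal Morse lemma. -/
theorem morse (m : ℕ) (hm : 2 ≤ m) (q : Fin n → Fin n → A) (hq : QuadNondeg q) (a : A) (F : P)
    (hF : F - ((quadPoly q + MvPolynomial.C a : MvPolynomial (Fin n) A) : P) ∈ XI (Fin n) A ^ (m + 1)) :
    ∃ h : Fin n → P, (∀ i, h i ∈ XI (Fin n) A ^ m) ∧
      subst (fun i => X i + h i) F = ((quadPoly q + MvPolynomial.C a : MvPolynomial (Fin n) A) : P) := by
  classical
  obtain ⟨k, rfl⟩ : ∃ k, m = k + 1 := ⟨m - 1, by omega⟩
  have hk : 1 ≤ k := by omega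
  set I := XI (Fin n) A with hI
  set U : Matrix (Fin n) (Fin n) P := upper q with hU
  set Mi : Matrix (Fin n) (Fin n) P := ((polarMatrix q)⁻¹).map (C : A →+* P) with hMi
  set x : Fin n → P := X with hx
  have hMMi : (U + Uᵀ) * Mi = 1 := by
    rw [hU, ← polar_eq, hMi, ← Matrix.map_mul, Matrix.mul_nonsing_inv _ hq,
      Matrix.map_one _ (map_zero _) (map_one _)]
  obtain ⟨T, hT, hTk⟩ := exists_matrix (k := k) _ hF
  have hkI : I ^ k ≤ I := Ideal.pow_le_self (by omega)
  let v : Matrix (Fin n) (Fin n) P → Fin n → P := fun H => (1 + H) *ᵥ x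
  have hv : ∀ H i, v H i ∈ I := fun H i => by
    show ∑ j, (1 + H) i j * (X j : P) ∈ I
    exact Ideal.sum_mem _ fun j _ => Ideal.mul_mem_left _ _ (Ideal.subset_span ⟨j, rfl⟩)
  let Ts : Matrix (Fin n) (Fin n) P → Matrix (Fin n) (Fin n) P := fun H => T.map (subst (v H))
  let Φ : Matrix (Fin n) (Fin n) P → Matrix (Fin n) (Fin n) P := fun H =>
    -(Mi * (Hᵀ * U * H + (1 + H)ᵀ * Ts H * (1 + H)))
  have hTs : ∀ H, MemI (I ^ k) (Ts H) := fun H i j => subst_mem (hv H) (hTk i j)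
  obtain ⟨H, hH, hfix⟩ := exists_fixed (R := A) (σ := Fin n) (ι := Fin n × Fin n) k
    (fun u p => Φ (fun i j => u (i, j)) p.1 p.2)
    (fun u hu p => by
      let H : Matrix (Fin n) (Fin n) P := fun i j => u (i, j)
      have hH : MemI (I ^ k) H := fun i j => hu (i, j)
      exact (((hH.transpose.mul_right U).mul_right H).add
        (((hTs H).mul_left _).mul_right _) |>.mul_left Mi).neg p.1 p.2)
    (fun l u w hu hw huw p => by
      let H : Matrix (Fin n) (Fin n) P := fun i j => u (i, j)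
      let H' : Matrix (Fin n) (Fin n) P := fun i j => w (i, j)
      have hd : MemI (I ^ l) (H - H') := fun i j => huw (i, j)
      have hH : MemI I H := fun i j => hkI (hu (i, j))
      have hH' : MemI I H' := fun i j => hkI (hw (i, j))
      have hl : I ^ l * I ≤ I ^ (l + 1) := (pow_succ I l).ge
      have hl' : I * I ^ l ≤ I ^ (l + 1) := (pow_succ' I l).ge
      have hvd : ∀ i, v H i - v H' i ∈ I ^ (l + 1) := fun i => by
        have : v H i - v H' i = ((H - H') *ᵥ x) i := by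
          simp only [v, Matrix.add_mulVec, Matrix.sub_mulVec, Pi.sub_apply, Pi.add_apply]; ring
        rw [this]
        show ∑ j, (H - H') i j * (X j : P) ∈ I ^ (l + 1)
        exact Ideal.sum_mem _ fun j _ => hl (Ideal.mul_mem_mul (hd i j) (Ideal.subset_span ⟨j, rfl⟩))
      have hTd : MemI (I ^ (l + 1)) (Ts H - Ts H') := fun i j =>
        subst_congr_pow (hv H) (hv H') hvd (T i j)
      have e : Φ H - Φ H' = -(Mi * (((H - H')ᵀ * (U * H) + H'ᵀ * U * (H - H')) +
          (((H - H')ᵀ * (Ts H * (1 + H)) + (1 + H')ᵀ * (Ts H - Ts H') * (1 + H)) +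
            (1 + H')ᵀ * Ts H' * (H - H')))) := by
        simp only [Φ, Matrix.transpose_sub, Matrix.transpose_add, Matrix.transpose_one, Matrix.mul_sub,
          Matrix.sub_mul, Matrix.mul_add, Matrix.add_mul, Matrix.one_mul, Matrix.mul_one,
          Matrix.mul_assoc]
        abel
      show (Φ H - Φ H') p.1 p.2 ∈ _
      rw [e]
      refine ((MemI.add (MemI.add ?_ ?_) (MemI.add (MemI.add ?_ ?_) ?_)).mul_left Mi).neg p.1 p.2
      · exact (hd.transpose.mul (hH.mul_left U)).mono hl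
      · exact ((hH'.transpose.mul_right U).mul hd).mono hl'
      · exact (hd.transpose.mul (((hTs H).mono hkI).mul_right _)).mono hl
      · exact (hTd.mul_left _).mul_right _
      · exact ((((hTs H').mono hkI).mul_left _).mul hd).mono hl')
  let Hm : Matrix (Fin n) (Fin n) P := fun i j => H (i, j)
  have hHm : Φ Hm = Hm := Matrix.ext fun i j => congrFun hfix (i, j)
  refine ⟨Hm *ᵥ x, fun i => ?_, ?_⟩
  · rw [pow_succ]
    show ∑ j, Hm i j * (X j : P) ∈ I ^ k * I
    exact Ideal.sum_mem _ fun j _ => Ideal.mul_mem_mul (hH (i, j)) (Ideal.subset_span ⟨j, rfl⟩)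
  have hveq : (fun i => X i + (Hm *ᵥ x) i) = v Hm := by
    funext i; simp only [v, Matrix.add_mulVec, Matrix.one_mulVec, Pi.add_apply, hx]
  rw [hveq]
  set s := substAlgHom (R := A) (hasSubst (hv Hm)) with hs
  rw [← coe_substAlgHom (hasSubst (hv Hm)), ← hs]
  have hFe : F = x ⬝ᵥ (U *ᵥ x) + C a + x ⬝ᵥ (T *ᵥ x) := by
    rw [← hT, MvPolynomial.coe_add, MvPolynomial.coe_C, coe_quadPoly, ← hU, ← hx]; ring
  have hsx : (s : P → P) ∘ x = v Hm := funext fun i => substAlgHom_X _ i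
  have hmap : ∀ (W : Matrix (Fin n) (Fin n) P),
      s (x ⬝ᵥ (W *ᵥ x)) = v Hm ⬝ᵥ (W.map s *ᵥ v Hm) := by
    intro W
    rw [← hsx]
    simp [dotProduct, Matrix.mulVec, map_sum]
  have hUs : U.map s = U := Matrix.ext fun i j => by
    simp only [Matrix.map_apply, hU, upper]
    split_ifs
    · exact s.commutes _
    · exact map_zero s
  have hTs' : T.map s = Ts Hm := by simp only [Ts, hs, coe_substAlgHom]
  rw [hFe, map_add, map_add, hmap, hmap, hUs, hTs', MvPolynomial.coe_add, MvPolynomial.coe_C,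
    coe_quadPoly, ← hU, ← hx, show s (C a) = C a from s.commutes a]
  -- the quadratic identity
  have hB : (U + Uᵀ) * Hm + (Hmᵀ * U * Hm + (1 + Hm)ᵀ * Ts Hm * (1 + Hm)) = 0 := by
    conv_lhs => arg 1; rw [← hHm]
    simp only [Φ, Matrix.mul_neg, ← Matrix.mul_assoc (U + Uᵀ) Mi, hMMi, Matrix.one_mul, neg_add_cancel]
  have hsymm : ∀ W : Matrix (Fin n) (Fin n) P, x ⬝ᵥ (Wᵀ *ᵥ x) = x ⬝ᵥ (W *ᵥ x) := fun W => by
    rw [Matrix.mulVec_transpose, dotProduct_comm, ← Matrix.dotProduct_mulVec]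
  have hconj : ∀ W : Matrix (Fin n) (Fin n) P,
      v Hm ⬝ᵥ (W *ᵥ v Hm) = x ⬝ᵥ (((1 + Hm)ᵀ * W * (1 + Hm)) *ᵥ x) := by
    intro W
    simp only [v, ← Matrix.mulVec_mulVec]
    rw [Matrix.dotProduct_mulVec x (1 + Hm)ᵀ, Matrix.vecMul_transpose]
  rw [hconj, hconj]
  have hU2 : (1 + Hm)ᵀ * U * (1 + Hm) = U + U * Hm + Hmᵀ * U + Hmᵀ * U * Hm := by
    simp only [Matrix.transpose_add, Matrix.transpose_one, Matrix.add_mul, Matrix.one_mul,
      Matrix.mul_add, Matrix.mul_one]
    abel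
  rw [hU2]
  have h0 := congrArg (fun W : Matrix (Fin n) (Fin n) P => x ⬝ᵥ (W *ᵥ x)) hB
  simp only [Matrix.add_mul, Matrix.add_mulVec, dotProduct_add, Matrix.zero_mulVec, dotProduct_zero] at h0
  simp only [Matrix.add_mulVec, dotProduct_add]
  rw [show x ⬝ᵥ ((Hmᵀ * U) *ᵥ x) = x ⬝ᵥ ((Uᵀ * Hm) *ᵥ x) by
    rw [← hsymm (Hmᵀ * U), Matrix.transpose_mul, Matrix.transpose_transpose]]
  linear_combination h0

end Groth.Agent.H61.Morse
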