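import Mathlib

/-!
The filtration of `R[[X]]` (finitely many variables) by powers of the ideal of the variables:
coefficient description, substitution congruences, fixed points of contractions.
-/

open MvPowerSeries

namespace Groth.Agent.H61.PSFilt

universe u v
variable {σ : Type v} [Finite σ] {R : Type u} [CommRing R]

/-- the ideal of the variables -/
noncomputable abbrev XI (σ : Type v) (R : Type u) [CommRing R] : Ideal (MvPowerSeries σ R) :=
  Ideal.span (Set.range X)

/-- all coefficients of total degree `< k` vanish -/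
def Low (k : ℕ) (g : MvPowerSeries σ R) : Prop := ∀ e : σ →₀ ℕ, e.degree < k → coeff e g = 0

lemma low_of_mem : ∀ {k : ℕ} {g : MvPowerSeries σ R}, g ∈ XI σ R ^ k → Low k g := by
  classical
  intro k
  induction k with
  | zero => intro g _ e he; exact absurd he (Nat.not_lt_zero _)
  | succ k ih =>
    intro g hg
    rw [pow_succ] at hg
    induction hg using Submodule.mul_induction_on' with
    | mem_mul_mem a ha b hb =>
      intro e he
      rw [coeff_mul]
      refine Finset.sum_eq_zero fun x hx => ?_
      rw [Finset.HasAntidiagonal.mem_antidiagonal] at hx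
      by_cases h2 : x.2 = 0
      · have hb0 : constantCoeff b = 0 := by
          have hle : XI σ R ≤ RingHom.ker (constantCoeff (σ := σ) (R := R)) := by
            rw [Ideal.span_le]; rintro _ ⟨i, rfl⟩; simp
          exact hle hb
        rw [h2, coeff_zero_eq_constantCoeff_apply, hb0, mul_zero]
      · have hpos : 0 < x.2.degree := by
          rw [pos_iff_ne_zero, ne_eq, Finsupp.degree_eq_zero_iff]; exact h2
        have : x.1.degree + x.2.degree = e.degree := by rw [← map_add, hx]
        rw [ih ha x.1 (by omega), zero_mul]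
    | add a _ b _ ha hb => intro e he; rw [map_add, ha e he, hb e he, add_zero]

lemma exists_decomp (g : MvPowerSeries σ R) (hg : constantCoeff g = 0) [Fintype σ] :
    ∃ a : σ → MvPowerSeries σ R, g = ∑ i, X i * a i ∧ ∀ k, Low (k + 1) g → ∀ i, Low k (a i) := by
  classical
  rcases isEmpty_or_nonempty σ with h | h
  · refine ⟨0, ?_, fun k _ i => isEmptyElim i⟩
    ext n
    rw [Subsingleton.elim n 0, coeff_zero_eq_constantCoeff_apply, hg]
    simp
  let ch : (σ →₀ ℕ) → σ := fun n =>
    if h : ∃ i, n i ≠ 0 then h.choose else Classical.arbitrary σ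
  let a : σ → MvPowerSeries σ R := fun i (m : σ →₀ ℕ) =>
    if ch (m + Finsupp.single i 1) = i then coeff (m + Finsupp.single i 1) g else 0
  refine ⟨a, ?_, fun k hk i m hm => ?_⟩
  · ext n
    rw [map_sum]
    simp only [X, coeff_monomial_mul, one_mul]
    rcases eq_or_ne n 0 with rfl | hn
    · simp [hg]
    · have hex : ∃ i, n i ≠ 0 := by
        by_contra h
        push Not at h
        exact hn (Finsupp.ext h)
      have hch : n (ch n) ≠ 0 := by
        simp only [ch, dif_pos hex]; exact hex.choose_spec
      have hle : Finsupp.single (ch n) 1 ≤ n := by rw [Finsupp.single_le_iff]; omega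
      rw [Finset.sum_eq_single (ch n)]
      · rw [if_pos hle]
        show coeff n g = a (ch n) (n - Finsupp.single (ch n) 1)
        simp only [a, tsub_add_cancel_of_le hle, if_true]
      · intro i _ hi
        split_ifs with hle'
        · show a i (n - Finsupp.single i 1) = 0
          simp only [a, tsub_add_cancel_of_le hle', if_neg (Ne.symm hi)]
        · rfl
      · simp
  · show a i m = 0
    simp only [a]
    split_ifs
    · exact hk _ (by rw [map_add, Finsupp.degree_single]; omega)
    · rfl

lemma mem_iff {k : ℕ} {g : MvPowerSeries σ R} : g ∈ XI σ R ^ k ↔ Low k g := by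
  refine ⟨low_of_mem, ?_⟩
  induction k generalizing g with
  | zero => intro _; simp
  | succ k ih =>
    intro hg
    cases nonempty_fintype σ
    obtain ⟨a, rfl, ha⟩ := exists_decomp g
      (by rw [← coeff_zero_eq_constantCoeff_apply]; exact hg 0 (by simp))
    rw [pow_succ']
    exact Ideal.sum_mem _ fun i _ =>
      Ideal.mul_mem_mul (Ideal.subset_span ⟨i, rfl⟩) (ih (ha k hg i))

lemma mem_iff_constantCoeff {g : MvPowerSeries σ R} : g ∈ XI σ R ↔ constantCoeff g = 0 := by
  rw [← pow_one (XI σ R), mem_iff, ← coeff_zero_eq_constantCoeff_apply]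
  refine ⟨fun h => h 0 (by simp), fun h e he => ?_⟩
  rw [Finsupp.degree_eq_zero_iff e |>.mp (by omega)]; exact h

lemma mem_sq_iff {g : MvPowerSeries σ R} :
    g ∈ XI σ R ^ 2 ↔ constantCoeff g = 0 ∧ ∀ i, coeff (Finsupp.single i 1) g = 0 := by
  classical
  rw [mem_iff, ← coeff_zero_eq_constantCoeff_apply]
  refine ⟨fun h => ⟨h 0 (by simp), fun i => h _ (by simp)⟩, fun h e he => ?_⟩
  by_cases h0 : e = 0
  · rw [h0]; exact h.1
  · have h1 : e.degree = 1 := by
      have := mt (Finsupp.degree_eq_zero_iff e).mp h0; omega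
    obtain ⟨i, rfl⟩ : ∃ i, e = Finsupp.single i 1 := by
      obtain ⟨i, hi⟩ : ∃ i, e i ≠ 0 := by
        by_contra hc; push Not at hc; exact h0 (Finsupp.ext hc)
      refine ⟨i, ?_⟩
      have hle : Finsupp.single i 1 ≤ e := by rw [Finsupp.single_le_iff]; omega
      have h2 : (e - Finsupp.single i 1).degree = 0 := by
        have h3 := map_add (Finsupp.degree (σ := σ) (R := ℕ)) (e - Finsupp.single i 1) (Finsupp.single i 1)
        rw [tsub_add_cancel_of_le hle, h1, Finsupp.degree_single] at h3
        omega
      rw [← tsub_add_cancel_of_le hle, (Finsupp.degree_eq_zero_iff _).mp h2, zero_add]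
    exact h.2 i

lemma eq_zero_of_forall_mem {g : MvPowerSeries σ R} (h : ∀ k, g ∈ XI σ R ^ k) : g = 0 := by
  ext e; exact low_of_mem (h (e.degree + 1)) e (Nat.lt_succ_self _)

lemma sub_truncTotal_mem (k : ℕ) (g : MvPowerSeries σ R) :
    g - (truncTotal k g : MvPowerSeries σ R) ∈ XI σ R ^ k := by
  rw [mem_iff]; intro e he
  rw [map_sub, MvPolynomial.coeff_coe, coeff_truncTotal _ he, sub_self]

lemma hasSubst {a : σ → MvPowerSeries σ R} (ha : ∀ i, a i ∈ XI σ R) : HasSubst a :=
  hasSubst_of_constantCoeff_zero fun i => mem_iff_constantCoeff.mp (ha i)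

lemma subst_mem {a : σ → MvPowerSeries σ R} (ha : ∀ i, a i ∈ XI σ R) {k : ℕ}
    {g : MvPowerSeries σ R} (hg : g ∈ XI σ R ^ k) : subst a g ∈ XI σ R ^ k := by
  rw [← coe_substAlgHom (hasSubst ha)]
  have : (XI σ R ^ k).map (substAlgHom (hasSubst ha)) ≤ XI σ R ^ k := by
    rw [Ideal.map_pow]
    refine Ideal.pow_right_mono ?_ k
    rw [Ideal.map_span, Ideal.span_le]
    rintro _ ⟨_, ⟨i, rfl⟩, rfl⟩
    rw [substAlgHom_X]
    exact ha i
  exact this (Ideal.mem_map_of_mem _ hg)

lemma subst_congr_pow {a b : σ → MvPowerSeries σ R} (ha : ∀ i, a i ∈ XI σ R)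
    (hb : ∀ i, b i ∈ XI σ R) {k : ℕ} (hab : ∀ i, a i - b i ∈ XI σ R ^ k) (g : MvPowerSeries σ R) :
    subst a g - subst b g ∈ XI σ R ^ k := by
  have hr := sub_truncTotal_mem k g
  set p := truncTotal k g
  have hp : subst a (p : MvPowerSeries σ R) - subst b (p : MvPowerSeries σ R) ∈ XI σ R ^ k := by
    rw [subst_coe, subst_coe, ← Ideal.Quotient.eq, ← Ideal.Quotient.mkₐ_eq_mk R,
      MvPolynomial.comp_aeval_apply, MvPolynomial.comp_aeval_apply]
    congr 2
    funext i
    exact Ideal.Quotient.eq.mpr (hab i)
  rw [← coe_substAlgHom (hasSubst ha), ← coe_substAlgHom (hasSubst hb)] at hp ⊢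
  have h1 : substAlgHom (hasSubst ha) (g - (p : MvPowerSeries σ R)) ∈ XI σ R ^ k := by
    rw [coe_substAlgHom]; exact subst_mem ha hr
  have h2 : substAlgHom (hasSubst hb) (g - (p : MvPowerSeries σ R)) ∈ XI σ R ^ k := by
    rw [coe_substAlgHom]; exact subst_mem hb hr
  rw [map_sub] at h1 h2
  convert Ideal.add_mem _ hp (Ideal.sub_mem _ h1 h2) using 1
  ring

/-- Fixed point of a contraction on tuples of series lying in the `j`-th power. -/
theorem exists_fixed {ι : Type*} (j : ℕ) (Φ : (ι → MvPowerSeries σ R) → ι → MvPowerSeries σ R)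
    (hmaps : ∀ u, (∀ i, u i ∈ XI σ R ^ j) → ∀ i, Φ u i ∈ XI σ R ^ j)
    (hcon : ∀ k u v, (∀ i, u i ∈ XI σ R ^ j) → (∀ i, v i ∈ XI σ R ^ j) →
      (∀ i, u i - v i ∈ XI σ R ^ k) → ∀ i, Φ u i - Φ v i ∈ XI σ R ^ (k + 1)) :
    ∃ u, (∀ i, u i ∈ XI σ R ^ j) ∧ Φ u = u := by
  let s : ℕ → ι → MvPowerSeries σ R := fun k => Φ^[k] 0
  have hs : ∀ k i, s k i ∈ XI σ R ^ j := by
    intro k
    induction k with
    | zero => intro i; exact zero_mem _
    | succ k ih => simp only [s, Function.iterate_succ_apply']; exact hmaps _ ih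
  have hstep : ∀ k i, s (k + 1) i - s k i ∈ XI σ R ^ k := by
    intro k
    induction k with
    | zero => intro i; simp
    | succ k ih =>
      simp only [s, Function.iterate_succ_apply'] at ih ⊢
      exact hcon k _ _ (by simpa [s, Function.iterate_succ_apply'] using hs (k + 1)) (hs k) ih
  have hmono : ∀ k l i, s (k + l) i - s k i ∈ XI σ R ^ k := by
    intro k l i
    induction l with
    | zero => simp
    | succ l ih =>
      have h := Ideal.pow_le_pow_right (Nat.le_add_right k l) (hstep (k + l) i)
      convert Ideal.add_mem _ h ih using 1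
      rw [← add_assoc]; ring
  let u : ι → MvPowerSeries σ R := fun i (e : σ →₀ ℕ) => coeff e (s (e.degree + 1) i)
  have hu : ∀ k i, u i - s k i ∈ XI σ R ^ k := by
    intro k i
    rw [mem_iff]
    intro e he
    obtain ⟨l, rfl⟩ := Nat.exists_eq_add_of_le (Nat.succ_le_of_lt he)
    have := low_of_mem (hmono (e.degree + 1) l i) e (Nat.lt_succ_self _)
    rw [map_sub, sub_eq_zero] at this ⊢
    show coeff e (s (e.degree + 1) i) = _
    exact this.symm
  have huj : ∀ i, u i ∈ XI σ R ^ j := fun i => by
    simpa using Ideal.add_mem _ (hu j i) (hs j i)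
  refine ⟨u, huj, funext fun i => sub_eq_zero.mp (eq_zero_of_forall_mem fun k => ?_)⟩
  have h1 := Ideal.pow_le_pow_right (Nat.le_succ k) (hcon k u (s k) huj (hs k) (hu k) i)
  have h2 := Ideal.pow_le_pow_right (Nat.le_succ k) (hu (k + 1) i)
  simp only [s, Function.iterate_succ_apply'] at h2
  convert Ideal.sub_mem _ h1 h2 using 1
  simp only [s]; ring

/-- A substitution `X i ↦ X i + h i` with `h i` of order `≥ 2` is bijective. -/
theorem subst_bijective {h : σ → MvPowerSeries σ R} (hh : ∀ i, h i ∈ XI σ R ^ 2) :
    Function.Bijective (subst (R := R) fun i => X i + h i) := by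
  have ha : ∀ i, X i + h i ∈ XI σ R := fun i =>
    Ideal.add_mem _ (Ideal.subset_span ⟨i, rfl⟩) (Ideal.pow_le_self two_ne_zero (hh i))
  set s := substAlgHom (R := R) (hasSubst ha) with hs
  rw [← coe_substAlgHom (hasSubst ha), ← hs]
  have key : ∀ k, ∀ d ∈ XI σ R ^ k, s d - d ∈ XI σ R ^ (k + 1) := by
    intro k
    induction k with
    | zero =>
      intro d _
      have h' := subst_congr_pow (a := fun i => X i + h i) (b := X) ha
        (fun i => Ideal.subset_span ⟨i, rfl⟩)
        (k := 1) (fun i => by simpa using Ideal.pow_le_self two_ne_zero (hh i)) d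
      have hid : subst (X : σ → MvPowerSeries σ R) d = d := congrFun subst_self d
      rw [hid, ← coe_substAlgHom (hasSubst ha), ← hs] at h'
      exact h'
    | succ k ih =>
      intro d hd
      rw [pow_succ] at hd
      induction hd using Submodule.mul_induction_on' with
      | mem_mul_mem a ha' b hb =>
        have hbb : s b - b ∈ XI σ R ^ 2 := by
          have hle : (XI σ R) ≤ Ideal.comap s.toRingHom (XI σ R) := by
            rw [Ideal.span_le]; rintro _ ⟨i, rfl⟩
            show s (X i) ∈ XI σ R
            rw [hs, substAlgHom_X]; exact ha i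
          induction hb using Submodule.span_induction with
          | mem x hx => obtain ⟨i, rfl⟩ := hx; rw [hs, substAlgHom_X]; simpa using hh i
          | zero => simp
          | add x y _ _ hx hy => rw [map_add]; convert Ideal.add_mem _ hx hy using 1; ring
          | smul c x hxm hx =>
            rw [smul_eq_mul, map_mul]
            have hc : s c - c ∈ XI σ R ^ 1 := by
              have h' := subst_congr_pow (a := fun i => X i + h i) (b := X) ha
                (fun i => Ideal.subset_span ⟨i, rfl⟩)
                (k := 1) (fun i => by simpa using Ideal.pow_le_self two_ne_zero (hh i)) c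
              rw [congrFun subst_self c, ← coe_substAlgHom (hasSubst ha), ← hs] at h'
              exact h'
            rw [pow_one] at hc
            have := Ideal.add_mem _ (Ideal.mul_mem_left _ (s c) hx)
              (pow_two (XI σ R) ▸ Ideal.mul_mem_mul hc hxm)
            convert this using 1; ring
        rw [map_mul]
        have hsa : s a ∈ XI σ R ^ k := by rw [hs, coe_substAlgHom]; exact subst_mem ha ha'
        have h1 := Ideal.mul_mem_mul hsa hbb
        have h2 := Ideal.mul_mem_mul (ih a ha') hb
        rw [← pow_add] at h1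
        rw [← pow_succ] at h2
        convert Ideal.add_mem _ h1 h2 using 1; ring
      | add a _ b _ ha' hb => rw [map_add]; convert Ideal.add_mem _ ha' hb using 1; ring
  refine ⟨fun f g hfg => sub_eq_zero.mp (eq_zero_of_forall_mem fun k => ?_), fun g => ?_⟩
  · induction k with
    | zero => simp
    | succ k ih =>
      have := key k _ ih
      rw [map_sub, hfg, sub_self, zero_sub] at this
      simpa using Ideal.neg_mem_iff _ |>.mpr this
  · obtain ⟨u, -, hu⟩ := exists_fixed (R := R) (σ := σ) (ι := Unit) 0 (fun u _ => g - (s (u ()) - u ()))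
      (by simp) (fun k u v _ _ huv i => by
        have := key k _ (huv ())
        rw [map_sub] at this
        convert Ideal.neg_mem_iff _ |>.mpr this using 1; ring)
    refine ⟨u (), ?_⟩
    have := congrFun hu ()
    linear_combination -this

end Groth.Agent.H61.PSFilt
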