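import Mathlib

/-!
Translations `X i ↦ X i + c i` of `A[[X]]` for `A` adically complete and `c` in the ideal of definition.
-/

open MvPowerSeries Filter
open scoped MvPowerSeries.WithPiTopology Topology

namespace Groth.Agent.H61.PSTranslate

universe u v

theorem exists_translation {A : Type u} [CommRing A] (I : Ideal A) [IsAdicComplete I A]
    (σ : Type v) [Finite σ] :
    ∃ T : (σ → A) → (MvPowerSeries σ A → MvPowerSeries σ A),
      ∀ c : σ → A, (∀ i, c i ∈ I) →
        (∃ e : MvPowerSeries σ A ≃ₐ[A] MvPowerSeries σ A, ⇑e = T c ∧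
          ∀ i, T c (X i) = X i + C (c i)) ∧
        ((∀ i, c i = 0) → ∀ g, T c g = g) ∧
        ∀ c' : σ → A, (∀ i, c' i ∈ I) → ∀ k, (∀ i, c i - c' i ∈ I ^ k) →
          ∀ g e, coeff e (T c g) - coeff e (T c' g) ∈ I ^ k := by
  classical
  let : WithIdeal A := ⟨I⟩
  have hI : IsAdic I := rfl
  obtain ⟨hcs, ht2⟩ := hI.isAdicComplete_iff.mp inferInstance
  have hopen : ∀ k, IsClosed ((I ^ k : Ideal A) : Set A) := fun k => by
    apply AddSubgroup.isClosed_of_isOpen (I ^ k).toAddSubgroup
    exact AddSubgroup.isOpen_of_mem_nhds _ (g := 0)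
      ((Ideal.hasBasis_nhds_zero_adic I).mem_of_mem (i := k) trivial)
  have hev : ∀ c : σ → A, (∀ i, c i ∈ I) →
      HasEval (fun i => (X i : MvPowerSeries σ A) + C (c i)) := fun c hc => by
    refine ⟨fun i => LinearTopology.isTopologicallyNilpotent_of_constantCoeff ?_, by simp⟩
    simp only [map_add, constantCoeff_X, constantCoeff_C, zero_add]
    refine (Ideal.hasBasis_nhds_zero_adic I).tendsto_right_iff.mpr fun n _ => ?_
    exact eventually_atTop.mpr ⟨n, fun m hm => Ideal.pow_le_pow_right hm (Ideal.pow_mem_pow (hc i) m)⟩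
  let T : (σ → A) → (MvPowerSeries σ A → MvPowerSeries σ A) := fun c =>
    if hc : ∀ i, c i ∈ I then ⇑(MvPowerSeries.aeval (hev c hc)) else id
  have hT : ∀ c (hc : ∀ i, c i ∈ I), T c = ⇑(MvPowerSeries.aeval (hev c hc)) := fun c hc => dif_pos hc
  have hcoe : ∀ (c : σ → A) (hc : ∀ i, c i ∈ I) (p : MvPolynomial σ A),
      MvPowerSeries.aeval (hev c hc) (p : MvPowerSeries σ A) =
        MvPolynomial.aeval (fun i => (X i : MvPowerSeries σ A) + C (c i)) p := fun c hc p => aeval_coe _ p
  have hXc : ∀ (c : σ → A) (hc : ∀ i, c i ∈ I) i,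
      MvPowerSeries.aeval (hev c hc) (X i) = X i + C (c i) := fun c hc i => by
    rw [← MvPolynomial.coe_X, hcoe c hc, MvPolynomial.aeval_X, MvPolynomial.coe_X]
  -- two continuous algebra endomorphisms that agree on the variables agree
  have hext : ∀ f g : MvPowerSeries σ A →ₐ[A] MvPowerSeries σ A, Continuous f → Continuous g →
      (∀ i, f (X i) = g (X i)) → f = g := by
    intro f g hf hg hfg
    apply DFunLike.coe_injective
    refine DenseRange.equalizer WithPiTopology.denseRange_toMvPowerSeries hf hg (funext fun p => ?_)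
    show f.comp (MvPolynomial.coeToMvPowerSeries.algHom A) p =
      g.comp (MvPolynomial.coeToMvPowerSeries.algHom A) p
    congr 1
    exact MvPolynomial.algHom_ext fun i => by simpa using hfg i
  refine ⟨T, fun c hc => ⟨?_, ?_, ?_⟩⟩
  · have hinv : ∀ (c : σ → A) (hc : ∀ i, c i ∈ I) (hc' : ∀ i, (-c) i ∈ I),
        (MvPowerSeries.aeval (hev c hc)).comp (MvPowerSeries.aeval (hev (-c) hc')) =
          AlgHom.id A (MvPowerSeries σ A) := fun c hc hc' => by
      refine hext _ _ ((continuous_aeval (hev c hc)).comp (continuous_aeval (hev (-c) hc'))) continuous_id fun i => ?_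
      have hC : ∀ r : A, MvPowerSeries.aeval (hev c hc) (C r) = C r :=
        (MvPowerSeries.aeval (hev c hc)).commutes
      rw [AlgHom.comp_apply, hXc (-c) hc', map_add, hXc c hc, hC, AlgHom.id_apply, Pi.neg_apply, map_neg]
      ring
    have hc' : ∀ i, (-c) i ∈ I := fun i => I.neg_mem (hc i)
    refine ⟨AlgEquiv.ofAlgHom _ (MvPowerSeries.aeval (hev (-c) hc')) (hinv c hc hc') ?_,
      (hT c hc).symm, fun i => by rw [hT c hc, hXc c hc]⟩
    have := hinv (-c) hc' (fun i => by simpa using hc i)
    simpa only [neg_neg] using this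
  · intro h0 g
    rw [hT c hc]
    refine congrFun (congrArg DFunLike.coe
      (hext _ (AlgHom.id A _) (continuous_aeval (hev c hc)) continuous_id fun i => ?_)) g
    rw [hXc c hc, h0, map_zero, add_zero, AlgHom.id_apply]
  · intro c' hc' k hk g e
    rw [hT c hc, hT c' hc']
    revert g
    refine fun g => (WithPiTopology.denseRange_toMvPowerSeries (σ := σ) (R := A)).induction_on
      (p := fun g => coeff e (MvPowerSeries.aeval (hev c hc) g) -
        coeff e (MvPowerSeries.aeval (hev c' hc') g) ∈ I ^ k) g ?_ fun p => ?_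
    · exact (hopen k).preimage (((WithPiTopology.continuous_coeff A e).comp (continuous_aeval (hev c hc))).sub
        ((WithPiTopology.continuous_coeff A e).comp (continuous_aeval (hev c' hc'))))
    · show coeff e (MvPowerSeries.aeval (hev c hc) (p : MvPowerSeries σ A)) -
        coeff e (MvPowerSeries.aeval (hev c' hc') (p : MvPowerSeries σ A)) ∈ I ^ k
      rw [hcoe c hc, hcoe c' hc', ← Ideal.Quotient.eq, ← coeff_map, ← coeff_map]
      congr 1
      have : (MvPowerSeries.map (σ := σ) (Ideal.Quotient.mk (I ^ k))).comp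
          (MvPolynomial.aeval (R := A) (fun i => (X i : MvPowerSeries σ A) + C (c i))).toRingHom =
          (MvPowerSeries.map (σ := σ) (Ideal.Quotient.mk (I ^ k))).comp
          (MvPolynomial.aeval (R := A) (fun i => (X i : MvPowerSeries σ A) + C (c' i))).toRingHom := by
        refine MvPolynomial.ringHom_ext (fun r => ?_) fun i => ?_
        · simp
        · simp [MvPowerSeries.map_C, Ideal.Quotient.eq.mpr (hk i)]
      exact RingHom.congr_fun this p

end Groth.Agent.H61.PSTranslate
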