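import Mathlib.LinearAlgebra.TensorProduct.Basis
import Mathlib.RepresentationTheory.Basic
import Mathlib.Data.ZMod.Basic
import Mathlib.Algebra.CharP.Two
import Mathlib.Tactic.Abel
import Mathlib.Tactic.Ring

/-!
# `S²V → Λ²V` over the field with two elements
-/

universe u v w

open scoped TensorProduct

namespace Groth.Agent.H61.SymExt

variable {V : Type v} [AddCommGroup V] [Module (ZMod 2) V] {ι : Type w}
  (b : Module.Basis ι (ZMod 2) V)

/-- The coefficient of a tensor. -/
noncomputable def cf (t : V ⊗[ZMod 2] V) (i j : ι) : ZMod 2 := (b.tensorProduct b).repr t (i, j)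

/-- `N_a`. -/
abbrev Na (V : Type v) [AddCommGroup V] [Module (ZMod 2) V] : Submodule (ZMod 2) (V ⊗[ZMod 2] V) :=
  Submodule.span (ZMod 2) (Set.range fun v : V => v ⊗ₜ[ZMod 2] v)

/-- `N_s`. -/
abbrev Ns (V : Type v) [AddCommGroup V] [Module (ZMod 2) V] : Submodule (ZMod 2) (V ⊗[ZMod 2] V) :=
  Submodule.span (ZMod 2)
    (Set.range fun p : V × V => p.1 ⊗ₜ[ZMod 2] p.2 + p.2 ⊗ₜ[ZMod 2] p.1)

theorem cf_tmul (v w : V) (i j : ι) : cf b (v ⊗ₜ[ZMod 2] w) i j = b.repr v i * b.repr w j := by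
  simp [cf, mul_comm]

@[simp] theorem cf_zero (i j : ι) : cf b 0 i j = 0 := by simp [cf]

@[simp] theorem cf_add (s t : V ⊗[ZMod 2] V) (i j : ι) :
    cf b (s + t) i j = cf b s i j + cf b t i j := by simp [cf]

@[simp] theorem cf_sub (s t : V ⊗[ZMod 2] V) (i j : ι) :
    cf b (s - t) i j = cf b s i j - cf b t i j := by simp [cf]

@[simp] theorem cf_smul (c : ZMod 2) (t : V ⊗[ZMod 2] V) (i j : ι) :
    cf b (c • t) i j = c * cf b t i j := by simp [cf]

theorem cf_comm (t : V ⊗[ZMod 2] V) (i j : ι) :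
    cf b (TensorProduct.comm (ZMod 2) V V t) i j = cf b t j i := by
  induction t using TensorProduct.induction_on with
  | zero => simp
  | tmul x y => simp [cf_tmul, mul_comm]
  | add s t hs ht => simp [hs, ht]

theorem ext_cf {s t : V ⊗[ZMod 2] V} (h : ∀ i j, cf b s i j = cf b t i j) : s = t :=
  (b.tensorProduct b).repr.injective (Finsupp.ext fun p => h p.1 p.2)

theorem sym_mem_Ns (t : V ⊗[ZMod 2] V) : t + TensorProduct.comm (ZMod 2) V V t ∈ Ns V := by
  induction t using TensorProduct.induction_on with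
  | zero => simp
  | tmul x y => exact Submodule.subset_span ⟨(x, y), rfl⟩
  | add s t hs ht =>
    have : s + t + TensorProduct.comm (ZMod 2) V V (s + t) =
        (s + TensorProduct.comm (ZMod 2) V V s) + (t + TensorProduct.comm (ZMod 2) V V t) := by
      rw [map_add]; abel
    rw [this]
    exact add_mem hs ht

theorem Ns_le_Na : Ns V ≤ Na V := by
  refine Submodule.span_le.mpr ?_
  rintro _ ⟨⟨x, y⟩, rfl⟩
  have : x ⊗ₜ[ZMod 2] y + y ⊗ₜ[ZMod 2] x =
      (x + y) ⊗ₜ[ZMod 2] (x + y) - x ⊗ₜ[ZMod 2] x - y ⊗ₜ[ZMod 2] y := by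
    simp [TensorProduct.add_tmul, TensorProduct.tmul_add]; abel
  show x ⊗ₜ[ZMod 2] y + y ⊗ₜ[ZMod 2] x ∈ Na V
  rw [this]
  exact sub_mem (sub_mem (Submodule.subset_span ⟨x + y, rfl⟩) (Submodule.subset_span ⟨x, rfl⟩))
    (Submodule.subset_span ⟨y, rfl⟩)

theorem symm_of_mem_Na {t : V ⊗[ZMod 2] V} (h : t ∈ Na V) (i j : ι) :
    cf b t i j = cf b t j i := by
  have hc : TensorProduct.comm (ZMod 2) V V t = t := by
    induction h using Submodule.span_induction with
    | mem x hx => obtain ⟨v, rfl⟩ := hx; simp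
    | zero => simp
    | add x y _ _ hx hy => simp [hx, hy]
    | smul c x _ hx => simp [hx]
  conv_lhs => rw [← hc]
  exact cf_comm b t i j

theorem diag_of_mem_Ns {t : V ⊗[ZMod 2] V} (h : t ∈ Ns V) (i : ι) : cf b t i i = 0 := by
  induction h using Submodule.span_induction with
  | mem x hx =>
    obtain ⟨⟨p, q⟩, rfl⟩ := hx
    simp [cf_tmul, mul_comm, CharTwo.add_self_eq_zero]
  | zero => simp
  | add x y _ _ hx hy => simp [hx, hy]
  | smul c x _ hx => simp [hx]

theorem mem_Ns_of {t : V ⊗[ZMod 2] V} (hs : ∀ i j, cf b t i j = cf b t j i)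
    (hd : ∀ i, cf b t i i = 0) : t ∈ Ns V := by
  classical
  let _ : LinearOrder ι := linearOrderOfSTO WellOrderingRel
  let y := (b.tensorProduct b).repr.symm
    (((b.tensorProduct b).repr t).filter fun p => p.1 < p.2)
  have hy : ∀ i j, cf b y i j = if i < j then cf b t i j else 0 := fun i j => by
    simp [cf, y, Finsupp.filter_apply]
  have : t = y + TensorProduct.comm (ZMod 2) V V y := ext_cf b fun i j => by
    rcases lt_trichotomy i j with h | rfl | h
    · simp [hy, cf_comm, h, h.asymm]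
    · simp [hy, cf_comm, hd]
    · simp [hy, cf_comm, h, h.asymm, hs i j]
  rw [this]
  exact sym_mem_Ns y

theorem exists_diag_split (t : V ⊗[ZMod 2] V) :
    ∃ d ∈ Na V, (∀ i, cf b d i i = cf b t i i) ∧ ∀ i j, i ≠ j → cf b d i j = 0 := by
  classical
  let d := (b.tensorProduct b).repr.symm (((b.tensorProduct b).repr t).filter fun p => p.1 = p.2)
  refine ⟨d, ?_, fun i => by simp [cf, d], fun i j h => by simp [cf, d, Finsupp.filter_apply, h]⟩
  rw [show d = _ from (b.tensorProduct b).repr_symm_apply _, Finsupp.linearCombination_apply]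
  refine Submodule.sum_mem _ fun p hp => Submodule.smul_mem _ _ (Submodule.subset_span ⟨b p.1, ?_⟩)
  obtain ⟨i, j⟩ := p
  rw [Finsupp.support_filter, Finset.mem_filter] at hp
  obtain rfl : i = j := hp.2
  simp

theorem mem_Na_of {t : V ⊗[ZMod 2] V} (hs : ∀ i j, cf b t i j = cf b t j i) : t ∈ Na V := by
  classical
  obtain ⟨d, hd, hd1, hd2⟩ := exists_diag_split b t
  have h : t - d ∈ Ns V := by
    refine mem_Ns_of b (fun i j => ?_) (fun i => by simp [hd1])
    rcases eq_or_ne i j with rfl | h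
    · rfl
    · simp [hd2 i j h, hd2 j i h.symm, hs i j]
  simpa using add_mem (Ns_le_Na h) hd

variable {G : Type u} [Group G] (ρ : Representation (ZMod 2) G V)

/-- A permutation module splits. -/
theorem exists_split_perm (hb : ∀ g : G, ∀ i : ι, ∃ j : ι, ρ g (b i) = b j) :
    ∃ W : Submodule (ZMod 2) (V ⊗[ZMod 2] V),
      (∀ g : G, ∀ w ∈ W, ρ.tprod ρ g w ∈ W) ∧ W ⊓ Na V = Ns V ∧ W ⊔ Na V = ⊤ := by
  classical
  choose π hπ using hb
  let W : Submodule (ZMod 2) (V ⊗[ZMod 2] V) :=
    Submodule.span (ZMod 2) {t | ∃ i j, i ≠ j ∧ b i ⊗ₜ[ZMod 2] b j = t}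
  have hdiag : ∀ t ∈ W, ∀ l, cf b t l l = 0 := by
    intro t ht l
    induction ht using Submodule.span_induction with
    | mem x hx =>
      obtain ⟨i, j, hij, rfl⟩ := hx
      rw [cf_tmul, b.repr_self, b.repr_self]
      rcases eq_or_ne i l with rfl | h <;> simp [*, Ne.symm hij]
    | zero => simp
    | add x y _ _ hx hy => simp [hx, hy]
    | smul c x _ hx => simp [hx]
  have hmem : ∀ t, (∀ l, cf b t l l = 0) → t ∈ W := by
    intro t h
    rw [← (b.tensorProduct b).linearCombination_repr t, Finsupp.linearCombination_apply]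
    refine Submodule.sum_mem _ fun p hp => Submodule.smul_mem _ _ (Submodule.subset_span ?_)
    obtain ⟨i, j⟩ := p
    refine ⟨i, j, ?_, by simp⟩
    rintro rfl
    exact Finsupp.mem_support_iff.mp hp (h i)
  refine ⟨W, fun g w hw => ?_, le_antisymm ?_ ?_, eq_top_iff.mpr fun t _ => ?_⟩
  · induction hw using Submodule.span_induction with
    | mem x hx =>
      obtain ⟨i, j, hij, rfl⟩ := hx
      refine Submodule.subset_span ⟨π g i, π g j, fun e => hij (b.injective
        ((ρ.apply_bijective g).1 (by rw [hπ, hπ, e]))), ?_⟩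
      simp [hπ]
    | zero => simp
    | add x y _ _ hx hy => simpa using add_mem hx hy
    | smul c x _ hx => simpa using Submodule.smul_mem _ c hx
  · rintro t ⟨h1, h2⟩
    exact mem_Ns_of b (symm_of_mem_Na b h2) (hdiag t h1)
  · exact le_inf (fun t ht => hmem t (diag_of_mem_Ns b ht)) Ns_le_Na
  · obtain ⟨d, hd, hd1, -⟩ := exists_diag_split b t
    rw [show t = (t - d) + d by abel]
    exact Submodule.add_mem_sup (hmem _ fun l => by simp [hd1]) hd

end Groth.Agent.H61.SymExt
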