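import Groth.Agent.H61.SymExt
import Mathlib.LinearAlgebra.FiniteDimensional.Basic
import Mathlib.Algebra.BigOperators.Fin
import Mathlib.Data.Fintype.Pi
import Mathlib.Data.Fintype.Prod
import Mathlib.Tactic.LinearCombination
import Mathlib.Tactic.FinCases

/-!
# `S²V → Λ²V` over the field with two elements in low dimension
-/

universe u v w

open scoped TensorProduct

namespace Groth.Agent.H61.SymExtLow


open Groth.Agent.H61.SymExt

variable {G : Type u} [Group G] {V : Type v} [AddCommGroup V] [Module (ZMod 2) V]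
  (ρ : Representation (ZMod 2) G V) {ι : Type w} [Fintype ι] (b : Module.Basis ι (ZMod 2) V)

/-- The matrix of `ρ g`. -/
noncomputable def mat (g : G) (i j : ι) : ZMod 2 := b.repr (ρ g (b j)) i

theorem repr_apply (g : G) (x : V) (i : ι) :
    b.repr (ρ g x) i = ∑ j, mat ρ b g i j * b.repr x j := by
  conv_lhs => rw [← b.sum_repr x, map_sum, map_sum, Finsupp.finset_sum_apply]
  simp [mat, mul_comm]

theorem cf_apply (g : G) (t : V ⊗[ZMod 2] V) (i j : ι) :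
    cf b (ρ.tprod ρ g t) i j = ∑ p, ∑ q, mat ρ b g i p * mat ρ b g j q * cf b t p q := by
  induction t using TensorProduct.induction_on with
  | zero => simp
  | tmul x y =>
    rw [Representation.tprod_apply, TensorProduct.map_tmul, cf_tmul, repr_apply, repr_apply,
      Finset.sum_mul_sum]
    simp only [cf_tmul]
    exact Finset.sum_congr rfl fun _ _ => Finset.sum_congr rfl fun _ _ => by ring
  | add s t hs ht =>
    rw [map_add, cf_add, hs, ht]
    simp [mul_add, Finset.sum_add_distrib]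

/-- `∨` on `ZMod 2`. -/
def orr (a c : ZMod 2) : ZMod 2 := a + c + a * c

set_option synthInstance.maxSize 4000 in
theorem dec2' : ∀ r0 r1 t uv : ZMod 2 × ZMod 2,
    (∀ p : ZMod 2 × ZMod 2, r0.1 * p.1 + r0.2 * p.2 = 0 → r1.1 * p.1 + r1.2 * p.2 = 0 → p = 0) →
    t.1 = uv.1 + uv.2 → t.2 = uv.1 + uv.2 →
    r0.1 * r0.1 * t.1 + r0.1 * r0.2 * uv.1 + r0.2 * r0.1 * uv.2 + r0.2 * r0.2 * t.2 =
        (r0.1 * r1.1 * t.1 + r0.1 * r1.2 * uv.1 + r0.2 * r1.1 * uv.2 + r0.2 * r1.2 * t.2) +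
        (r1.1 * r0.1 * t.1 + r1.1 * r0.2 * uv.1 + r1.2 * r0.1 * uv.2 + r1.2 * r0.2 * t.2) ∧
      r1.1 * r1.1 * t.1 + r1.1 * r1.2 * uv.1 + r1.2 * r1.1 * uv.2 + r1.2 * r1.2 * t.2 =
        (r0.1 * r1.1 * t.1 + r0.1 * r1.2 * uv.1 + r0.2 * r1.1 * uv.2 + r0.2 * r1.2 * t.2) +
        (r1.1 * r0.1 * t.1 + r1.1 * r0.2 * uv.1 + r1.2 * r0.1 * uv.2 + r1.2 * r0.2 * t.2) := by
  decide +kernel

set_option synthInstance.maxSize 4000 in
theorem dec3' : ∀ (w : ZMod 2 × ZMod 2 × ZMod 2) (r s t : ZMod 2 × ZMod 2 × ZMod 2),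
    (r.1 * s.2.1 + r.2.1 * s.1) * w.1 + (r.1 * s.2.2 + r.2.2 * s.1) * w.2.1 +
        (r.2.1 * s.2.2 + r.2.2 * s.2.1) * w.2.2 = w.1 →
    (r.1 * t.2.1 + r.2.1 * t.1) * w.1 + (r.1 * t.2.2 + r.2.2 * t.1) * w.2.1 +
        (r.2.1 * t.2.2 + r.2.2 * t.2.1) * w.2.2 = w.2.1 →
    (s.1 * t.2.1 + s.2.1 * t.1) * w.1 + (s.1 * t.2.2 + s.2.2 * t.1) * w.2.1 +
        (s.2.1 * t.2.2 + s.2.2 * t.2.1) * w.2.2 = w.2.2 →
    r.1 * orr w.1 w.2.1 + r.2.1 * orr w.1 w.2.2 + r.2.2 * orr w.2.1 w.2.2 +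
        (r.1 * r.2.1 * w.1 + r.1 * r.2.2 * w.2.1 + r.2.1 * r.2.2 * w.2.2) = orr w.1 w.2.1 ∧
      s.1 * orr w.1 w.2.1 + s.2.1 * orr w.1 w.2.2 + s.2.2 * orr w.2.1 w.2.2 +
        (s.1 * s.2.1 * w.1 + s.1 * s.2.2 * w.2.1 + s.2.1 * s.2.2 * w.2.2) = orr w.1 w.2.2 ∧
      t.1 * orr w.1 w.2.1 + t.2.1 * orr w.1 w.2.2 + t.2.2 * orr w.2.1 w.2.2 +
        (t.1 * t.2.1 * w.1 + t.1 * t.2.2 * w.2.1 + t.2.1 * t.2.2 * w.2.2) = orr w.2.1 w.2.2 := by
  decide +kernel

theorem sq_eq (a : ZMod 2) : a * a = a := by revert a; decide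

/-- Dimension two: the splitting. -/
theorem exists_split_two (b : Module.Basis (Fin 2) (ZMod 2) V) :
    ∃ W : Submodule (ZMod 2) (V ⊗[ZMod 2] V),
      (∀ g : G, ∀ w ∈ W, ρ.tprod ρ g w ∈ W) ∧ W ⊓ Na V = Ns V ∧ W ⊔ Na V = ⊤ := by
  let W : Submodule (ZMod 2) (V ⊗[ZMod 2] V) :=
    { carrier := {t | cf b t 0 0 = cf b t 0 1 + cf b t 1 0 ∧ cf b t 1 1 = cf b t 0 1 + cf b t 1 0}
      zero_mem' := by simp
      add_mem' := fun {s t} hs ht => by
        simp only [Set.mem_setOf_eq, cf_add, hs.1, hs.2, ht.1, ht.2] at *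
        constructor <;> ring
      smul_mem' := fun c t ht => by
        simp only [Set.mem_setOf_eq, cf_smul] at *
        rw [ht.1, ht.2]
        constructor <;> ring }
  refine ⟨W, fun g t ht => ?_, le_antisymm ?_ ?_, eq_top_iff.mpr fun t _ => ?_⟩
  · have hinj : ∀ p q : ZMod 2, mat ρ b g 0 0 * p + mat ρ b g 0 1 * q = 0 →
        mat ρ b g 1 0 * p + mat ρ b g 1 1 * q = 0 → p = 0 ∧ q = 0 := by
      intro p q h0 h1
      have hx : ρ g (b.repr.symm (Finsupp.single 0 p + Finsupp.single 1 q)) = 0 := by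
        apply b.repr.injective
        ext i
        rw [repr_apply]
        fin_cases i <;> simpa [Fin.sum_univ_two] using by assumption
      have h2 := (ρ.apply_bijective g).1 (hx.trans (map_zero _).symm)
      have h3 := congrArg b.repr h2
      simp only [LinearEquiv.apply_symm_apply, map_zero] at h3
      exact ⟨by simpa using DFunLike.congr_fun h3 0, by simpa using DFunLike.congr_fun h3 1⟩
    have key := dec2' (mat ρ b g 0 0, mat ρ b g 0 1) (mat ρ b g 1 0, mat ρ b g 1 1)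
      (cf b t 0 0, cf b t 1 1) (cf b t 0 1, cf b t 1 0)
      (fun p h0 h1 => Prod.ext_iff.mpr (hinj p.1 p.2 h0 h1)) ht.1 ht.2
    constructor
    · simp only [cf_apply, Fin.sum_univ_two, ← add_assoc]
      linear_combination key.1
    · simp only [cf_apply, Fin.sum_univ_two, ← add_assoc]
      linear_combination key.2
  · rintro t ⟨h1, h2⟩
    have hs := symm_of_mem_Na b h2
    refine mem_Ns_of b hs fun i => ?_
    have h0 : cf b t 0 1 + cf b t 1 0 = 0 := by rw [hs 0 1]; exact CharTwo.add_self_eq_zero _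
    fin_cases i
    · exact h1.1.trans h0
    · exact h1.2.trans h0
  · refine le_inf (fun t ht => ?_) Ns_le_Na
    have hs := symm_of_mem_Na b (Ns_le_Na ht)
    show _ ∧ _
    rw [diag_of_mem_Ns b ht 0, diag_of_mem_Ns b ht 1, hs 0 1, CharTwo.add_self_eq_zero]
    exact ⟨rfl, rfl⟩
  · let x := cf b t 0 0 - (cf b t 0 1 + cf b t 1 0)
    let y := cf b t 1 1 - (cf b t 0 1 + cf b t 1 0)
    let d := x • (b 0 ⊗ₜ[ZMod 2] b 0) + y • (b 1 ⊗ₜ[ZMod 2] b 1)
    rw [show t = (t - d) + d by abel]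
    refine Submodule.add_mem_sup ?_ (add_mem (Submodule.smul_mem _ _ (Submodule.subset_span ⟨b 0, rfl⟩))
      (Submodule.smul_mem _ _ (Submodule.subset_span ⟨b 1, rfl⟩)))
    show _ ∧ _
    simp [d, x, y, cf_tmul]

/-- Dimension three: invariant classes lift. -/
theorem exists_lift_three (b : Module.Basis (Fin 3) (ZMod 2) V) (t : V ⊗[ZMod 2] V)
    (ht : ∀ g : G, ρ.tprod ρ g t - t ∈ Na V) :
    ∃ t' : V ⊗[ZMod 2] V, t' - t ∈ Na V ∧ ∀ g : G, ρ.tprod ρ g t' - t' ∈ Ns V := by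
  let w := fun i j => cf b t i j + cf b t j i
  let d := (cf b t 0 0 + orr (w 0 1) (w 0 2)) • (b 0 ⊗ₜ[ZMod 2] b 0) +
    (cf b t 1 1 + orr (w 0 1) (w 1 2)) • (b 1 ⊗ₜ[ZMod 2] b 1) +
    (cf b t 2 2 + orr (w 0 2) (w 1 2)) • (b 2 ⊗ₜ[ZMod 2] b 2)
  have hd : d ∈ Na V := add_mem (add_mem
    (Submodule.smul_mem _ _ (Submodule.subset_span ⟨b 0, rfl⟩))
    (Submodule.smul_mem _ _ (Submodule.subset_span ⟨b 1, rfl⟩)))
    (Submodule.smul_mem _ _ (Submodule.subset_span ⟨b 2, rfl⟩))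
  refine ⟨t + d, by simpa using hd, fun g => ?_⟩
  have hdg : ∀ x ∈ Na V, ρ.tprod ρ g x ∈ Na V := by
    intro x hx
    induction hx using Submodule.span_induction with
    | mem x hx =>
      obtain ⟨v, rfl⟩ := hx
      exact Submodule.subset_span ⟨ρ g v, by simp⟩
    | zero => simp
    | add x y _ _ hx hy => simpa using add_mem hx hy
    | smul c x _ hx => simpa using Submodule.smul_mem _ c hx
  have hmem : ρ.tprod ρ g (t + d) - (t + d) ∈ Na V := by
    rw [map_add, show ρ.tprod ρ g t + ρ.tprod ρ g d - (t + d) =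
      (ρ.tprod ρ g t - t) + (ρ.tprod ρ g d - d) by abel]
    exact add_mem (ht g) (sub_mem (hdg d hd) hd)
  refine mem_Ns_of b (symm_of_mem_Na b hmem) ?_
  have htwo : (2 : ZMod 2) = 0 := rfl
  set m := mat ρ b g
  set T := cf b (t + d) with hT
  have hA : ∀ i j, T i j + T j i = w i j := fun i j => by
    show cf b (t + d) i j + cf b (t + d) j i = _
    rw [cf_add b t d i j, cf_add b t d j i]
    linear_combination symm_of_mem_Na b hd i j + (cf b d j i) * htwo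
  have hD0 : T 0 0 = orr (w 0 1) (w 0 2) := by
    simp [hT, d, cf_tmul, ← add_assoc, CharTwo.add_self_eq_zero]
  have hD1 : T 1 1 = orr (w 0 1) (w 1 2) := by
    simp [hT, d, cf_tmul, ← add_assoc, CharTwo.add_self_eq_zero]
  have hD2 : T 2 2 = orr (w 0 2) (w 1 2) := by
    simp [hT, d, cf_tmul, ← add_assoc, CharTwo.add_self_eq_zero]
  have hinv : ∀ i j, (∑ p, ∑ q, m i p * m j q * T p q) + (∑ p, ∑ q, m j p * m i q * T p q) =
      T i j + T j i := by
    intro i j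
    have h := symm_of_mem_Na b hmem i j
    rw [cf_sub, cf_sub, cf_apply, cf_apply] at h
    linear_combination h + ((∑ p, ∑ q, m j p * m i q * T p q) - T j i) * htwo
  have hii : ∀ i, ∑ p, ∑ q, m i p * m i q * T p q = m i 0 * T 0 0 + m i 1 * T 1 1 + m i 2 * T 2 2 +
      (m i 0 * m i 1 * w 0 1 + m i 0 * m i 2 * w 0 2 + m i 1 * m i 2 * w 1 2) := by
    intro i
    simp only [Fin.sum_univ_three, sq_eq, ← hA]
    ring
  have hij : ∀ i j, (m i 0 * m j 1 + m i 1 * m j 0) * w 0 1 +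
      (m i 0 * m j 2 + m i 2 * m j 0) * w 0 2 + (m i 1 * m j 2 + m i 2 * m j 1) * w 1 2 = w i j := by
    intro i j
    rw [← hA i j, ← hinv i j]
    simp only [Fin.sum_univ_three, ← hA]
    linear_combination (-(m i 0 * m j 0 * T 0 0 + m i 1 * m j 1 * T 1 1 + m i 2 * m j 2 * T 2 2)) * htwo
  have key := dec3' (w 0 1, w 0 2, w 1 2) (m 0 0, m 0 1, m 0 2) (m 1 0, m 1 1, m 1 2)
    (m 2 0, m 2 1, m 2 2) (hij 0 1) (hij 0 2) (hij 1 2)
  intro i
  rw [cf_sub, cf_apply, sub_eq_zero]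
  show ∑ p, ∑ q, m i p * m i q * T p q = T i i
  rw [hii, hD0, hD1, hD2]
  fin_cases i
  · exact key.1.trans hD0.symm
  · exact key.2.1.trans hD1.symm
  · exact key.2.2.trans hD2.symm

end Groth.Agent.H61.SymExtLow
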